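import Cfsg.Agent.Lib.BlocksCore.CyclicTwist
import Cfsg.Agent.Lib.BlocksCore.StableHom
import Mathlib.LinearAlgebra.Eigenspace.Zero
import Mathlib.RingTheory.Artinian.Module

/-!
# A small representation in characteristic `p` forces a central `p'`-part of the centralizer

Let `z` of order `p` generate a Sylow subgroup and let `ρ` be a representation in characteristic
`p` of dimension at most `p / 2`, not trivial at `z`.  Then the sum of the conjugates of the
projection onto the fixed points of `K` agrees with it on the fixed points of `z` in the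
conjugation representation on the endomorphisms, so that `K` is central if all proper normal
subgroups are.
-/

set_option linter.unusedSectionVars false

namespace Cfsg.Agent.BlkChar.SmallDegree

open BlocksCore SmallGroups.SelfCent StableHom

variable {G : Type*} [Group G] [Fintype G] {p : ℕ} [Fact p.Prime] (s : Setup G p)
  {k : Type*} [Field k] [CharP k p] {V : Type*} [AddCommGroup V] [Module k V]
  [FiniteDimensional k V]

/-- Conjugation on endomorphisms. -/
noncomputable def adj (ρ : Representation k G V) : Representation k G (Module.End k V) where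
  toFun g := (LinearMap.mulLeft k (ρ g)).comp (LinearMap.mulRight k (ρ g⁻¹))
  map_one' := LinearMap.ext fun f => by simp
  map_mul' g h := LinearMap.ext fun f => by simp [mul_assoc]

theorem adj_apply (ρ : Representation k G V) (g : G) (f : Module.End k V) :
    adj ρ g f = ρ g * (f * ρ g⁻¹) := rfl

/-- The conjugation representation of a small representation has no free part. -/
theorem adj_sub_one_pow (ρ : Representation k G V) (hn : 2 * Module.finrank k V ≤ p) :
    (adj ρ s.z - 1) ^ (p - 1) = 0 := by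
  have hp : p.Prime := Fact.out
  have hnil : ∀ g : G, g ^ p = 1 → (ρ g - 1) ^ Module.finrank k V = 0 := by
    intro g hg
    cases subsingleton_or_nontrivial V with
    | inl h => exact Subsingleton.elim _ _
    | inr h =>
      haveI : CharP (Module.End k V) p :=
        charP_of_injective_algebraMap (FaithfulSMul.algebraMap_injective k _) p
      have hN : IsNilpotent (ρ g - 1) := ⟨p, by
        rw [sub_pow_char_of_commute p (Commute.one_right (ρ g)), ← map_pow, hg, map_one,
          one_pow, sub_self]⟩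
      have h1 := LinearMap.aeval_self_charpoly (ρ g - 1)
      rwa [IsNilpotent.charpoly_eq_X_pow_finrank hN, map_pow, Polynomial.aeval_X] at h1
  have hz : s.z ^ p = 1 := by
    have h := pow_orderOf_eq_one s.z
    rwa [s.orderOf_z] at h
  have hzi : s.z⁻¹ ^ p = 1 := by rw [inv_pow, hz, inv_one]
  set L : Module.End k (Module.End k V) := LinearMap.mulLeft k (ρ s.z) with hL
  set R : Module.End k (Module.End k V) := LinearMap.mulRight k (ρ s.z⁻¹) with hR
  have hLR : Commute L R := LinearMap.ext fun f => by simp [hL, hR, mul_assoc]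
  have hLn : (L - 1) ^ Module.finrank k V = 0 := by
    rw [show L - 1 = LinearMap.mulLeft k (ρ s.z - 1) from
      LinearMap.ext fun f => by simp [hL, sub_mul], LinearMap.pow_mulLeft, hnil _ hz]
    simp
  have hRn : (R - 1) ^ Module.finrank k V = 0 := by
    rw [show R - 1 = LinearMap.mulRight k (ρ s.z⁻¹ - 1) from
      LinearMap.ext fun f => by simp [hR, mul_sub], LinearMap.pow_mulRight, hnil _ hzi]
    simp
  have he : adj ρ s.z - 1 = (L - 1) * R + (R - 1) := by
    rw [sub_mul, one_mul, show L * R = adj ρ s.z from rfl]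
    abel
  have h1 : Commute (L - 1) R := hLR.sub_left (Commute.one_left _)
  rw [he]
  refine Commute.add_pow_eq_zero_of_add_le_succ_of_pow_eq_zero ?_
    (m := Module.finrank k V) (n := Module.finrank k V) ?_ hRn (by have := hp.two_le; omega)
  · exact ((h1.sub_right (Commute.one_right _)).mul_left
      ((Commute.refl R).sub_right (Commute.one_right _)))
  · rw [h1.mul_pow, hLn, zero_mul]

variable (hidx : ¬ p ∣ (Subgroup.zpowers s.z).index)

include hidx

/-- The `p'`-part of the centralizer is central, if the normal subgroups avoiding one fixed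
fusing element are. -/
theorem K_le_center_of (ρ : Representation k G V) (hn : 2 * Module.finrank k V ≤ p)
    (hρ : ρ s.z ≠ 1) {g : G}
    (hgN : g ∈ Subgroup.normalizer ((Subgroup.zpowers s.z : Subgroup G) : Set G))
    (hgC : g ∉ Subgroup.centralizer ({s.z} : Set G))
    (hnormal : ∀ H : Subgroup G, H.Normal → g ∉ H → H ≤ Subgroup.center G) :
    s.K ≤ Subgroup.center G := by
  classical
  have hp : p.Prime := Fact.out
  set P := Subgroup.zpowers s.z with hP
  set N := Subgroup.normalizer (P : Set G) with hN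
  haveI := Fintype.ofFinite P
  haveI := Fintype.ofFinite (G ⧸ N)
  have hs : Setting p P s.z := ⟨rfl, s.orderOf_z, hidx⟩
  intro w₀ hw₀
  by_contra hw₀c
  set σ := adj ρ with hσ
  -- the sum over `P` is zero
  have hzero : ∀ v, ∑ u : P, σ (u : G) v = 0 := fun v => by
    rw [sum_apply_eq hs σ v, hσ, adj_sub_one_pow s ρ hn, LinearMap.zero_apply]
  -- the average over `K`
  set c : k := (s.kset.card : k) with hc
  have hc0 : c ≠ 0 := by
    rw [hc, Ne, CharP.cast_eq_zero_iff k p, s.card_kset]
    exact s.not_dvd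
  set π : Module.End k (Module.End k V) := c⁻¹ • ∑ w ∈ s.kset, σ w with hπ
  have hπa : ∀ v, π v = c⁻¹ • ∑ w ∈ s.kset, σ w v := fun v => by simp [hπ]
  have hKπ : ∀ w ∈ s.K, ∀ v, σ w (π v) = π v := by
    intro w hw v
    rw [hπa, map_smul, map_sum]
    congr 1
    refine Finset.sum_nbij (w * ·) (fun u hu => s.mem_kset.mpr (mul_mem hw (s.mem_kset.mp hu)))
      (fun a _ b _ h => mul_left_cancel h) (fun u hu => ⟨w⁻¹ * u,
        s.mem_kset.mpr (mul_mem (inv_mem hw) (s.mem_kset.mp hu)), mul_inv_cancel_left _ _⟩)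
      (fun u _ => by rw [map_mul, Module.End.mul_apply])
  have hπK : ∀ v, (∀ w ∈ s.K, σ w v = v) → π v = v := fun v h => by
    rw [hπa, Finset.sum_congr rfl fun w hw => h w (s.mem_kset.mp hw), Finset.sum_const,
      ← Nat.cast_smul_eq_nsmul k, smul_smul, ← hc, inv_mul_cancel₀ hc0, one_smul]
  have hππ : ∀ v, π (π v) = π v := fun v => hπK _ fun w hw => hKπ w hw v
  have hNπ : ∀ n ∈ N, σ n * π = π * σ n := by
    intro n hn'
    obtain ⟨a, ha⟩ := CyclicTwist.exists_conj_eq hn'
    obtain ⟨b, hb⟩ := CyclicTwist.exists_conj_eq (inv_mem hn')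
    refine LinearMap.ext fun v => ?_
    rw [Module.End.mul_apply, Module.End.mul_apply, hπa, hπa, map_smul, map_sum]
    congr 1
    refine Finset.sum_nbij (fun w => n * w * n⁻¹)
      (fun w hw => s.mem_kset.mpr (s.conj_mem_K one_ne_zero (CyclicTwist.conj_zp_eq ha 1)
        (s.mem_kset.mp hw))) (fun a _ b _ h => by simpa using h)
      (fun w hw => ⟨n⁻¹ * w * n, ?_, by group⟩) fun w _ => ?_
    · have := s.conj_mem_K one_ne_zero (CyclicTwist.conj_zp_eq hb 1) (s.mem_kset.mp hw)
      rw [inv_inv] at this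
      exact s.mem_kset.mpr this
    · rw [← Module.End.mul_apply, ← map_mul, ← Module.End.mul_apply, ← map_mul]
      congr 2
      group
  -- the sum of the conjugates
  set Av := conjSum N σ π with hAv
  have hAvc : ∀ x, σ x * Av = Av * σ x := conjSum_commute N σ π hNπ
  have hAvπ : ∀ v, σ s.z v = v → Av v = π v := by
    intro v hv
    have hPv : ∀ u ∈ P, σ u v = v := by
      intro u hu
      obtain ⟨a, rfl⟩ := hs.exists_pow hu
      induction a with
      | zero => simp
      | succ a ih =>
        rw [pow_succ, map_mul, Module.End.mul_apply, hv, ih (pow_mem hs.mem a)]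
    set F : G ⧸ N → Module.End k V := fun q => σ q.out (π (σ q.out⁻¹ v)) with hF
    have hsum : Av v = ∑ q : G ⧸ N, F q := by
      rw [hAv, conjSum, LinearMap.sum_apply]
      rfl
    have hF1 : F ((1 : G) : G ⧸ N) = π v := by
      have h := LinearMap.congr_fun (conj_eq_of_mk_eq N σ π hNπ
        (a := (((1 : G) : G ⧸ N)).out) (b := 1) (QuotientGroup.out_eq' _)) v
      simpa [Module.End.mul_apply] using h
    let S := {q : G ⧸ N // q ≠ ((1 : G) : G ⧸ N)}
    have hfix : ∀ u ∈ P, u • ((1 : G) : G ⧸ N) = ((1 : G) : G ⧸ N) := by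
      intro u hu
      rw [MulAction.Quotient.smul_mk, smul_eq_mul, QuotientGroup.eq, mul_one, mul_one]
      exact inv_mem (Subgroup.le_normalizer hu)
    letI : MulAction P S :=
      { smul := fun u q => ⟨(u : G) • q.1, fun h => q.2 (by
          rw [← inv_smul_smul (u : G) q.1, h]; exact hfix _ (inv_mem u.2))⟩
        one_smul := fun q => Subtype.ext (one_smul G q.1)
        mul_smul := fun u u' q => Subtype.ext (mul_smul (u : G) (u' : G) q.1) }
    haveI := Fintype.ofFinite (Quotient (MulAction.orbitRel P S))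
    have hfree : ∀ (u : P) (q : S), u • q = q → u = 1 := by
      intro u q h
      by_contra hu
      obtain ⟨g, hg⟩ := QuotientGroup.mk_surjective q.1
      have h1 : ((u : G) • q.1) = q.1 := congrArg Subtype.val h
      rw [← hg, MulAction.Quotient.smul_mk, smul_eq_mul] at h1
      have h2 : g⁻¹ * (u : G)⁻¹ * g ∈ N := by
        have := QuotientGroup.eq.mp h1
        rwa [mul_inv_rev] at this
      have hu1 : (u : G)⁻¹ ≠ 1 := fun h0 => hu (Subtype.ext (inv_eq_one.mp h0))
      set Q := Subgroup.zpowers (g⁻¹ * (u : G)⁻¹ * g) with hQ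
      have hPp : IsPGroup p P := IsPGroup.of_card (n := 1) (by rw [hs.card_eq, pow_one])
      have hord : orderOf (g⁻¹ * (u : G)⁻¹ * g) = p := by
        rw [show g⁻¹ * (u : G)⁻¹ * g = MulAut.conj g⁻¹ (u : G)⁻¹ by simp, MulEquiv.orderOf_eq,
          ← Nat.card_zpowers, hs.zpowers_eq_of_mem (inv_mem u.2) hu1, hs.card_eq]
      have hQp : IsPGroup p Q := IsPGroup.of_card (n := 1) (by rw [hQ, Nat.card_zpowers, hord, pow_one])
      have h3 : P ⊔ Q = P := (hPp.toSylow hidx).3
        (hPp.to_sup_of_normal_left' hQp (Subgroup.zpowers_le.mpr h2)) le_sup_left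
      have h4 : g⁻¹ * (u : G)⁻¹ * g ∈ P := h3.le (Subgroup.mem_sup_right (Subgroup.mem_zpowers _))
      obtain ⟨i, hi⟩ := hs.exists_pow (hs.zpowers_eq_of_mem (inv_mem u.2) hu1 ▸ hs.mem :
        s.z ∈ P)
      have hz' : g⁻¹ * s.z * g ∈ P := by
        have hmem : s.z ∈ Subgroup.zpowers (u : G)⁻¹ := by
          rw [hs.zpowers_eq_of_mem (inv_mem u.2) hu1]; exact hs.mem
        obtain ⟨j, hj⟩ := Subgroup.mem_zpowers_iff.mp hmem
        rw [← hj, show g⁻¹ * ((u : G)⁻¹) ^ j * g = (g⁻¹ * (u : G)⁻¹ * g) ^ j by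
          rw [show g⁻¹ * (u : G)⁻¹ * g = g⁻¹ * (u : G)⁻¹ * g⁻¹⁻¹ by rw [inv_inv], conj_zpow, inv_inv]]
        exact zpow_mem h4 j
      obtain ⟨j, hj : s.z ^ j = g⁻¹ * s.z * g⟩ :=
        ((isOfFinOrder_of_finite s.z).mem_powers_iff_mem_zpowers).mpr hz'
      have hj0 : (j : ZMod p) ≠ 0 := fun h0 => by
        rw [← s.zp_natCast, h0, s.zp_zero] at hj
        have h5 : s.z = 1 := by
          calc s.z = g * (g⁻¹ * s.z * g) * g⁻¹ := by group
            _ = 1 := by rw [← hj]; group
        have := s.orderOf_z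
        rw [h5, orderOf_one] at this
        exact hp.ne_one this.symm
      have hgN : g⁻¹ ∈ N := CyclicTwist.mem_normalizer_of_conj (a := Units.mk0 _ hj0)
        (by rw [inv_inv, Units.val_mk0, s.zp_natCast, hj])
      exact q.2 (by rw [← hg, QuotientGroup.eq, mul_one]; exact hgN)
    have hrest : ∑ q : S, F q.1 = 0 := by
      rw [sum_eq_sum_free hfree, Finset.sum_comm]
      refine Finset.sum_eq_zero fun o _ => ?_
      rw [← hzero (F o.out.1)]
      refine Finset.sum_congr rfl fun u _ => ?_
      show F ((u : G) • o.out.1) = σ (u : G) (σ o.out.1.out (π (σ o.out.1.out⁻¹ v)))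
      have e : ((((u : G) • o.out.1).out : G) : G ⧸ N) = (((u : G) * o.out.1.out : G) : G ⧸ N) := by
        rw [QuotientGroup.out_eq']
        conv_lhs => rw [← QuotientGroup.out_eq' o.out.1]
        rfl
      have h := LinearMap.congr_fun (conj_eq_of_mk_eq N σ π hNπ e) v
      simp only [Module.End.mul_apply] at h
      refine h.trans ?_
      rw [map_mul, Module.End.mul_apply, mul_inv_rev, map_mul, Module.End.mul_apply,
        hPv _ (inv_mem u.2)]
    rw [hsum, ← Finset.add_sum_erase _ _ (Finset.mem_univ ((1 : G) : G ⧸ N)), hF1]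
    rw [show ∑ q ∈ Finset.univ.erase ((1 : G) : G ⧸ N), F q = 0 from ?_, add_zero]
    rw [← hrest]
    exact Finset.sum_subtype _ (fun q => by simp) F
  -- the stable image
  obtain ⟨m, hm⟩ := Filter.eventually_atTop.mp (LinearMap.eventually_isCompl_ker_pow_range_pow Av)
  set W := LinearMap.range (Av ^ (m + 1)) with hW
  have hcompl := hm (m + 1) (by omega)
  have hWinj : ∀ v ∈ W, Av v = 0 → v = 0 := by
    intro v hv h0
    have h1 : v ∈ LinearMap.ker (Av ^ (m + 1)) := by
      rw [LinearMap.mem_ker, pow_succ, Module.End.mul_apply, h0, map_zero]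
    exact (Submodule.eq_bot_iff _).mp hcompl.inf_eq_bot v ⟨h1, hv⟩
  have hWσ : ∀ x, ∀ v ∈ W, σ x v ∈ W := by
    intro x v hv
    obtain ⟨u, rfl⟩ := hv
    exact ⟨σ x u, by rw [← Module.End.mul_apply, ← Module.End.mul_apply,
      (Commute.pow_right (hAvc x : Commute (σ x) Av) (m + 1)).eq]⟩
  have hWπ : ∀ v ∈ W, π v ∈ W := fun v hv => by
    rw [hπa]
    exact Submodule.smul_mem _ _ (Submodule.sum_mem _ fun w _ => hWσ w v hv)
  have hzN : s.z ∈ N := Subgroup.le_normalizer hs.mem
  have hzπ : ∀ v, σ s.z (π v) = π (σ s.z v) := fun v => LinearMap.congr_fun (hNπ _ hzN) v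
  have hWfix : ∀ v ∈ W, σ s.z v = v → π v = v := by
    intro v hv hzv
    have h2 : σ s.z (π v) = π v := by rw [hzπ, hzv]
    refine (sub_eq_zero.mp (hWinj (v - π v) (Submodule.sub_mem _ hv (hWπ v hv)) ?_)).symm
    rw [map_sub, hAvπ v hzv, hAvπ _ h2, hππ, sub_self]
  have hWK : ∀ v ∈ W, π v = v := by
    intro v hv
    by_contra hne
    set X := σ s.z - 1 with hX
    have hXU : ∀ i, (X ^ i) (v - π v) ∈ W ∧ π ((X ^ i) (v - π v)) = 0 := by
      intro i
      induction i with
      | zero => exact ⟨Submodule.sub_mem _ hv (hWπ v hv), by simp [map_sub, hππ]⟩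
      | succ i ih =>
        rw [pow_succ', Module.End.mul_apply, hX, LinearMap.sub_apply, Module.End.one_apply]
        exact ⟨Submodule.sub_mem _ (hWσ _ _ ih.1) ih.1, by
          rw [map_sub, ← hzπ, ih.2, map_zero, sub_zero]⟩
    have hex : ∃ i, (X ^ i) (v - π v) = 0 := ⟨p - 1, by
      rw [hX, hσ, adj_sub_one_pow s ρ hn, LinearMap.zero_apply]⟩
    have h0 : Nat.find hex ≠ 0 := fun h => hne (by
      have := Nat.find_spec hex
      rw [h, pow_zero, Module.End.one_apply, sub_eq_zero] at this
      exact this.symm)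
    obtain ⟨i, hi⟩ := Nat.exists_eq_succ_of_ne_zero h0
    have hy : (X ^ i) (v - π v) ≠ 0 := Nat.find_min hex (by omega)
    have hXy : X ((X ^ i) (v - π v)) = 0 := by
      have := Nat.find_spec hex
      rwa [hi, pow_succ', Module.End.mul_apply] at this
    rw [hX, LinearMap.sub_apply, Module.End.one_apply, sub_eq_zero] at hXy
    have h3 := hWfix _ (hXU i).1 hXy
    rw [(hXU i).2] at h3
    exact hy h3.symm
  -- the kernel of the action on the stable image
  let H : Subgroup G :=
    { carrier := {g | ∀ v ∈ W, σ g v = v}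
      one_mem' := fun v _ => by simp
      mul_mem' := fun {a b} ha hb v hv => by rw [map_mul, Module.End.mul_apply, hb v hv, ha v hv]
      inv_mem' := fun {a} ha v hv => by
        conv_lhs => rw [← ha v hv]
        rw [← Module.End.mul_apply, ← map_mul, inv_mul_cancel, map_one, Module.End.one_apply] }
  have hHn : H.Normal := ⟨fun a ha x v hv => by
    rw [map_mul, map_mul, Module.End.mul_apply, Module.End.mul_apply, ha _ (hWσ _ _ hv),
      ← Module.End.mul_apply, ← map_mul, mul_inv_cancel, map_one, Module.End.one_apply]⟩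
  have hw₀H : w₀ ∈ H := fun v hv => by rw [← hWK v hv]; exact hKπ w₀ hw₀ v
  have hgH : g ∈ H := by
    by_contra hne
    exact hw₀c (hnormal H hHn hne hw₀H)
  -- `ρ z - 1` lies in the stable image
  set Y : Module.End k V := ρ s.z - 1 with hY
  have hYx : ∀ x : G, x * s.z = s.z * x → σ x Y = Y := by
    intro x hx
    rw [hσ, adj_apply, hY, ← mul_assoc, mul_sub, sub_mul, mul_one, ← map_mul, ← map_mul,
      ← map_mul, hx, mul_inv_cancel_right, mul_inv_cancel, map_one]
  have hYπ : π Y = Y := hπK _ fun w hw => hYx w (s.comm w hw)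
  have hYAv : Av Y = Y := (hAvπ Y (hYx s.z rfl)).trans hYπ
  have hYW : Y ∈ W := ⟨Y, by
    clear_value W
    induction m + 1 with
    | zero => simp
    | succ i ih => rw [pow_succ', Module.End.mul_apply, ih, hYAv]⟩
  obtain ⟨a, ha⟩ := CyclicTwist.exists_conj_eq hgN
  have hgY : σ g Y = Y := hgH Y hYW
  have hza : ρ (s.zp (a : ZMod p)) = ρ s.z := by
    rw [hσ, adj_apply, hY, ← mul_assoc, mul_sub, sub_mul, mul_one, ← map_mul, ← map_mul,
      ← map_mul, mul_inv_cancel, map_one, ha] at hgY
    exact sub_left_injective hgY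
  have ha1 : (a : ZMod p) - 1 ≠ 0 := by
    intro h
    rw [sub_eq_zero] at h
    rw [h, s.zp_one, mul_inv_eq_iff_eq_mul] at ha
    exact hgC (Subgroup.mem_centralizer_singleton_iff.mpr ha)
  have h1 : ρ (s.zp ((a : ZMod p) - 1)) = 1 := by
    have h := congrArg (fun f => f * ρ (s.zp (-1))) hza
    simp only [← map_mul, ← s.zp_add] at h
    rw [← sub_eq_add_neg, ← s.zp_one, ← s.zp_add, add_neg_cancel, s.zp_zero, map_one] at h
    exact h
  refine hρ ?_
  have h2 : s.z = s.zp ((a : ZMod p) - 1) ^ (((a : ZMod p) - 1)⁻¹).val := by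
    rw [s.zp_pow, ZMod.natCast_zmod_val, mul_inv_cancel₀ ha1, s.zp_one]
  rw [h2, map_pow, h1, one_pow]

/-- The `p'`-part of the centralizer is central. -/
theorem K_le_center (ρ : Representation k G V) (hn : 2 * Module.finrank k V ≤ p)
    (hρ : ρ s.z ≠ 1) (hsimple : ∀ H : Subgroup G, H.Normal → H ≠ ⊤ → H ≤ Subgroup.center G)
    (hfus : ∃ g ∈ Subgroup.normalizer ((Subgroup.zpowers s.z : Subgroup G) : Set G),
      g ∉ Subgroup.centralizer ({s.z} : Set G)) :
    s.K ≤ Subgroup.center G := by
  obtain ⟨g, hgN, hgC⟩ := hfus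
  exact K_le_center_of s hidx ρ hn hρ hgN hgC fun H hH hg =>
    hsimple H hH fun h => hg (h ▸ Subgroup.mem_top g)

end Cfsg.Agent.BlkChar.SmallDegree
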