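import Cfsg.Agent.Lib.BlocksCore.CyclicTwistLocal
import Cfsg.Agent.Blocks88.Modular
import Cfsg.Agent.Lib.CharCore.Linear

/-!
# Restriction to a central-by-`p` centralizer

If the `p'`-part `K` of the centralizer of `z` is central, every irreducible character is
described on `⟨z⟩` by one block of defect one.  If `z` is not fused in its normalizer, a faithful
irreducible character of small degree makes `z` central.
-/

set_option linter.unusedSectionVars false

open scoped ComplexConjugate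

namespace Cfsg.Agent.BlkChar.SmallDegree

open BlocksCore BlocksDefect SmallGroups.SelfCent CyclicTwist

variable {G : Type*} [Group G] [Fintype G] {p : ℕ} [Fact p.Prime] (s : Setup G p)

/-- Sums over the units and over their orbits. -/
theorem sum_orb (t : Twist s) [Fintype t.Orb] (F : t.Orb → ℤ) :
    ∑ r : (ZMod p)ˣ, F (r : t.Orb) = (Nat.card t.auto : ℤ) * ∑ o, F o := by
  classical
  haveI := Fintype.ofFinite t.auto
  rw [← nsmul_eq_mul,
    ← Fintype.sum_equiv (Subgroup.groupEquivQuotientProdSubgroup (s := t.auto)).symm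
      (fun x => F x.1) (fun r => F (r : t.Orb)) fun x => ?_]
  · rw [Fintype.sum_prod_type]
    simp only [Finset.sum_const, Finset.card_univ, ← Nat.card_eq_fintype_card]
    rw [← Finset.smul_sum]
  · obtain ⟨r, hr⟩ := (Subgroup.groupEquivQuotientProdSubgroup (s := t.auto)).surjective x
    rw [← hr, Equiv.symm_apply_apply]
    rfl

/-- Sums of a function of the vector over all residues. -/
theorem sum_vec (t : Twist s) [Fintype t.Orb] (χ : IrrCharacter G) (g : ℤ → ℤ) (hg : g 0 = 0) :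
    ∑ r : ZMod p, g (t.vec χ r) = (Nat.card t.auto : ℤ) * ∑ o, g (t.vecO χ o) := by
  classical
  have h0 : t.vec χ 0 = 0 := by
    apply Int.cast_injective (α := ℂ)
    rw [t.vec_spec, Twist.vecC_eq_sub, sub_self, Int.cast_zero]
  rw [← sum_orb s t (fun o => g (t.vecO χ o)), ← Finset.add_sum_erase _ _ (Finset.mem_univ (0 : ZMod p)),
    h0, hg, zero_add]
  symm
  refine Finset.sum_nbij (fun r : (ZMod p)ˣ => (r : ZMod p))
    (fun r _ => Finset.mem_erase.mpr ⟨r.ne_zero, Finset.mem_univ _⟩)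
    (fun _ _ _ _ h => Units.ext h) (fun r hr => ?_) (fun r _ => by rw [t.vec_eq_vecO])
  exact ⟨Units.mk0 r (Finset.ne_of_mem_erase hr), Finset.mem_univ _, rfl⟩

/-- The twisting datum of the central character of an irreducible character. -/
theorem exists_central_twist (hK : s.K ≤ Subgroup.center G) (ψ : IrrCharacter G) :
    ∃ t : Twist s, Nat.card t.auto = (Subgroup.centralizer ({s.z} : Set G)).relIndex
        (Subgroup.normalizer ((Subgroup.zpowers s.z : Subgroup G) : Set G)) ∧
      ∀ k : ZMod p, t.phi (ψ : G → ℂ) k = (ψ : G → ℂ) (s.zp k) := by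
  classical
  set C := Subgroup.centralizer ({s.z} : Set G) with hC
  have hzC : ∀ k : ZMod p, s.zp k ∈ C := fun k =>
    Subgroup.mem_centralizer_singleton_iff.mpr (Commute.pow_left (Commute.refl s.z) k.val).eq
  obtain ⟨m, hm0, hm1⟩ := Nat.chineseRemainder s.coprime_card 0 1
  have hmp : (m : ZMod p) = 0 := (ZMod.natCast_eq_zero_iff _ _).mpr (Nat.modEq_zero_iff_dvd.mp hm0)
  have hzm : ∀ k : ZMod p, s.zp k ^ m = 1 := fun k => by
    rw [s.zp_pow, hmp, mul_zero, s.zp_zero]
  have hwm : ∀ w ∈ s.K, w ^ m = w := fun w hw => by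
    conv_rhs => rw [← pow_one w]
    rw [pow_eq_pow_iff_modEq]
    exact hm1.of_dvd (Subgroup.orderOf_dvd_natCard _ hw)
  have hsplit : ∀ (k : ZMod p) (w : G), w ∈ s.K → (s.zp k * w) ^ m = w := fun k w hw => by
    rw [(s.comm_zp k hw).mul_pow, hzm, one_mul, hwm w hw]
  have hcen : ∀ c ∈ C, c ^ m ∈ Subgroup.center G := fun c hc => by
    obtain ⟨k, w, hw, rfl⟩ := s.exists_of_mem_cent hc
    rw [hsplit k w hw]
    exact hK hw
  have hcomm : ∀ c ∈ C, ∀ d ∈ C, Commute c d := fun c hc d hd => by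
    obtain ⟨k, w, hw, rfl⟩ := s.exists_of_mem_cent hc
    obtain ⟨j, v, hv, rfl⟩ := s.exists_of_mem_cent hd
    exact ((Commute.pow_pow (Commute.refl s.z) k.val j.val).mul_left
      (Subgroup.mem_center_iff.mp (hK hw) _).symm).mul_right
      (Subgroup.mem_center_iff.mp (hK hv) _)
  let l : C →* ℂ :=
    { toFun := fun c => cval ψ ((c : G) ^ m)
      map_one' := by simp [cval_one]
      map_mul' := fun c d => by
        rw [Subgroup.coe_mul, (hcomm _ c.2 _ d.2).mul_pow, cval_mul ψ (hcen _ d.2), mul_comm] }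
  let θ : IrrCharacter C := ⟨_, CharCore.isIrrCharacter_hom l.toHomUnits⟩
  have hθv : ∀ c : C, (θ : C → ℂ) c = cval ψ ((c : G) ^ m) := fun c => rfl
  let t : Twist s :=
    { C := C
      hC := rfl
      θ := θ
      hθ := fun k c c' h => by
        rw [hθv, hθv, h, (hcomm _ (hzC k) _ c.2).mul_pow, hzm, one_mul]
      T := Subgroup.normalizer ((Subgroup.zpowers s.z : Subgroup G) : Set G)
      hT := fun g => ⟨fun hg => ⟨hg, fun c c' h => by
        rw [hθv, hθv, h, conj_pow, Subgroup.mem_center_iff.mp (hcen _ c.2) g,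
          mul_inv_cancel_right]⟩, fun h => h.1⟩ }
  refine ⟨t, t.relIndex_eq.symm, fun k => ?_⟩
  have hterm : ∀ w ∈ s.kset, (ψ : G → ℂ) (s.zp k * w) * conj (t.th w) = (ψ : G → ℂ) (s.zp k) := by
    intro w hw
    have hw' := s.mem_kset.mp hw
    have hth : t.th w = cval ψ w := by
      rw [show t.th w = (θ : C → ℂ) ⟨w, t.K_le hw'⟩ from t.th_coe ⟨w, t.K_le hw'⟩, hθv]
      show cval ψ (w ^ m) = _
      rw [hwm w hw']
    have hn : cval ψ w * conj (cval ψ w) = 1 := by
      have h1 : ‖(θ : C → ℂ) ⟨w, t.K_le hw'⟩‖ = 1 :=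
        CharCore.norm_hom_apply l.toHomUnits ⟨w, t.K_le hw'⟩
      rw [← hth, show t.th w = (θ : C → ℂ) ⟨w, t.K_le hw'⟩ from t.th_coe ⟨w, t.K_le hw'⟩,
        Complex.mul_conj, Complex.normSq_eq_norm_sq, h1]
      simp
    rw [apply_mul_of_center ψ (hK hw'), hth, mul_comm (cval ψ w), mul_assoc, hn, mul_one]
  rw [Twist.phi, Finset.sum_congr rfl hterm, Finset.sum_const, nsmul_eq_mul,
    inv_mul_cancel_left₀ s.card_kset_ne_zero]

variable (hidx : ¬ p ∣ (Subgroup.zpowers s.z).index)

include hidx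

theorem factorization_eq_one : (Nat.card G).factorization p = 1 := by
  have hp : p.Prime := Fact.out
  rw [← Subgroup.card_mul_index (Subgroup.zpowers s.z), Nat.card_zpowers, s.orderOf_z,
    Nat.factorization_mul hp.ne_zero Subgroup.index_ne_zero_of_finite, Finsupp.add_apply,
    hp.factorization_self, Nat.factorization_eq_zero_of_not_dvd hidx]

/-- The possible restrictions of an irreducible character to `⟨z⟩`. -/
theorem degree_split (hK : s.K ≤ Subgroup.center G) (ψ : IrrCharacter G) (e : ℕ)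
    (he : (Subgroup.centralizer ({s.z} : Set G)).relIndex
      (Subgroup.normalizer ((Subgroup.zpowers s.z : Subgroup G) : Set G)) = e) :
    ∃ (m0 : ℕ) (u : ℤ), (charDegree (ψ : G → ℂ) : ℤ) = p * m0 + u ∧
      ∑ k ∈ Finset.univ.erase (0 : ZMod p), (ψ : G → ℂ) (s.zp k) = -(u : ℂ) ∧
      (u = 0 ∨ u = (p : ℤ) - 1 ∨ (u = -((p : ℤ) - 1) ∧ 1 ≤ m0) ∨
        ((u = e ∨ (u = -(e : ℤ) ∧ 1 ≤ m0)) ∧ (m0 = 0 →
          ∑ k ∈ Finset.univ.erase (0 : ZMod p), (ψ : G → ℂ) (s.zp k) *
            conj ((ψ : G → ℂ) (s.zp k)) = (p : ℂ) * e - (e : ℂ) ^ 2))) := by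
  classical
  have hp : p.Prime := Fact.out
  have hp0 : (p : ℂ) ≠ 0 := Nat.cast_ne_zero.mpr hp.ne_zero
  obtain ⟨M, hM⟩ := Blocks88.exists_isPModular hp
  haveI := BlocksCore.isPrime hM
  obtain ⟨t, hauto, hphi⟩ := exists_central_twist s hK ψ
  rw [he] at hauto
  haveI := Fintype.ofFinite t.Orb
  have hψc := CharCore.irr_isCharacter ψ
  obtain ⟨m0, hm0⟩ := t.mult_eq_natCast hψc 0
  have hnn : ∀ r, 0 ≤ (m0 : ℤ) + t.vec ψ r := fun r => by
    obtain ⟨n, hn⟩ := t.mult_eq_natCast hψc r
    have h : t.vec ψ r = (n : ℤ) - m0 := Int.cast_injective (α := ℂ) (by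
      rw [t.vec_spec, Twist.vecC_eq_sub, hn, hm0]; push_cast; ring)
    omega
  have hmult : ∀ r, t.mult (ψ : G → ℂ) r = (m0 : ℂ) + (t.vec ψ r : ℂ) := fun r => by
    rw [t.vec_spec, Twist.vecC_eq_sub, hm0]; ring
  set u : ℤ := (e : ℤ) * ∑ o, t.vecO ψ o with hu
  have husum : ∑ r : ZMod p, t.vec ψ r = u := by
    have h := sum_vec s t ψ id rfl
    simp only [id_eq] at h
    rw [h, hauto]
  have hsum0 : ∑ r : ZMod p, t.mult (ψ : G → ℂ) r = (ψ : G → ℂ) 1 := by
    simp only [Twist.mult, ← Finset.mul_sum]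
    rw [Finset.sum_comm, Finset.sum_eq_single (0 : ZMod p)]
    · rw [hphi, s.zp_zero]
      simp [AddChar.map_zero_eq_one]
      field_simp
    · intro k _ hk
      rw [← Finset.mul_sum]
      refine mul_eq_zero_of_right _ ?_
      rw [Finset.sum_congr rfl fun r _ => by rw [← mul_neg], sum_stdAddChar,
        if_neg (neg_ne_zero.mpr hk)]
    · simp
  have hdeg : (charDegree (ψ : G → ℂ) : ℤ) = p * m0 + u := by
    apply Int.cast_injective (α := ℂ)
    push_cast
    rw [← irr_one_eq, ← hsum0, Finset.sum_congr rfl fun r _ => hmult r, Finset.sum_add_distrib,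
      Finset.sum_const, Finset.card_univ, ZMod.card, nsmul_eq_mul, ← Int.cast_sum, husum]
  have hS : ∑ k ∈ Finset.univ.erase (0 : ZMod p), (ψ : G → ℂ) (s.zp k) = -(u : ℂ) := by
    have h2 : ∑ k : ZMod p, (ψ : G → ℂ) (s.zp k) = (p : ℂ) * m0 := by
      rw [← hm0, Twist.mult, mul_inv_cancel_left₀ hp0]
      exact Finset.sum_congr rfl fun k _ => by simp [hphi]
    rw [← Finset.add_sum_erase _ _ (Finset.mem_univ (0 : ZMod p)), s.zp_zero, irr_one_eq] at h2
    have h3 : ((charDegree (ψ : G → ℂ) : ℕ) : ℂ) = (p : ℂ) * m0 + u := by exact_mod_cast hdeg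
    linear_combination h2 - h3
  refine ⟨m0, u, hdeg, hS, ?_⟩
  -- the block
  have ha := factorization_eq_one s hidx
  have hPp : IsPGroup p (Subgroup.zpowers s.z) :=
    IsPGroup.of_card (n := 1) (by rw [Nat.card_zpowers, s.orderOf_z, pow_one])
  have hPC : Subgroup.zpowers s.z ≤ t.C := Subgroup.zpowers_le.mpr t.z_mem
  have hCC : Subgroup.centralizer ((Subgroup.zpowers s.z : Subgroup G) : Set G) ≤ t.C := by
    rw [BlocksCore.centralizer_zpowers, t.hC]
  obtain ⟨B, hind⟩ := inducedBlockDefined hM hPp hPC hCC t.C_le_normalizer t.isPBlock_blk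
  by_cases hψB : ψ ∈ B
  swap
  · left
    rw [hu, Finset.sum_eq_zero fun o _ => t.vecO_of_notMem hM hind hψB o, mul_zero]
  have hBP : IsDefectGroup p M B (Subgroup.zpowers s.z) := by
    refine isDefectGroup_zpowers hM s hidx hind.2.1 ?_
    obtain ⟨E, hE⟩ := exists_isDefectGroup hM hind.1
    haveI : ((Subgroup.zpowers s.z).subgroupOf t.C).Normal :=
      Subgroup.normal_subgroupOf_of_le_normalizer t.C_le_normalizer
    have h1 := le_defectGroup ((Subgroup.zpowers s.z).subgroupOf t.C) hM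
      (hPp.of_equiv (Subgroup.subgroupOfEquivOfLe hPC).symm) hind.1 hE
    obtain ⟨D, hD, hle⟩ := exists_defectGroup_ge hM hind hE
    have h2 : Subgroup.zpowers s.z ≤ D := fun x hx =>
      hle ⟨⟨x, hPC hx⟩, h1 (Subgroup.mem_subgroupOf.mpr hx), rfl⟩
    have h3 := Subgroup.card_le_of_le h2
    rw [Nat.card_zpowers, s.orderOf_z, defectGroup_natCard hM hind.2.1 hD] at h3
    have h4 : blockDefect p B ≤ (Nat.card G).factorization p := Nat.sub_le _ _
    have h5 : blockDefect p B ≠ 0 := fun h0 => by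
      rw [h0, pow_zero] at h3
      exact absurd h3 (not_le.mpr hp.one_lt)
    omega
  obtain ⟨f, c, ε, hε, -, -, hvf, hcx, -⟩ := t.exists_shape hM hind hBP hidx
  by_cases hY : ∃ i, f i = ψ
  swap
  · push Not at hY
    obtain ⟨hc1, hc2⟩ := hcx ψ hψB hY
    have hu' : u = ((p : ℤ) - 1) * c ψ := by
      rw [hu, Finset.sum_congr rfl fun o _ => hc2 o, Finset.sum_const, Finset.card_univ,
        nsmul_eq_mul, ← mul_assoc, ← Nat.cast_mul, ← Nat.card_eq_fintype_card, mul_comm e,
        ← hauto, t.card_orb_mul, Nat.cast_sub hp.one_le]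
      push_cast
      ring
    right
    rcases hc1 with h | h
    · left; rw [hu', h, mul_one]
    · refine Or.inr (Or.inl ⟨by rw [hu', h]; ring, ?_⟩)
      have := hnn ((1 : (ZMod p)ˣ) : ZMod p)
      rw [t.vec_eq_vecO, hc2, h] at this
      omega
  obtain ⟨i, rfl⟩ := hY
  have hu' : u = (e : ℤ) * ε := by
    rw [hu, Finset.sum_congr rfl fun o _ => hvf o i, Finset.sum_ite_eq', if_pos (Finset.mem_univ i)]
  refine Or.inr (Or.inr (Or.inr ⟨?_, fun hm => ?_⟩))
  · rcases hε with h | h
    · left; rw [hu', h, mul_one]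
    · right
      refine ⟨by rw [hu', h]; ring, ?_⟩
      obtain ⟨r, rfl⟩ := QuotientGroup.mk_surjective i
      have := hnn (r : ZMod p)
      rw [t.vec_eq_vecO, hvf, if_pos rfl, h] at this
      omega
  -- the norm
  have hm0' : t.mult (f i : G → ℂ) 0 = 0 := by rw [hm0, hm, Nat.cast_zero]
  have hval : ∀ k : ZMod p, (f i : G → ℂ) (s.zp k) =
      ∑ r, (t.vec (f i) r : ℂ) * ZMod.stdAddChar (r * k) := by
    intro k
    by_cases hk : k = 0
    · simp only [hk, s.zp_zero, mul_zero, AddChar.map_zero_eq_one, mul_one, ← Int.cast_sum, husum,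
        irr_one_eq]
      have h3 : ((charDegree (f i : G → ℂ) : ℕ) : ℂ) = (p : ℂ) * m0 + u := by exact_mod_cast hdeg
      rw [h3, hm, Nat.cast_zero, mul_zero, zero_add]
    · rw [← hphi, t.phi_eq_sum_vec _ hk, Finset.sum_erase]
      rw [show t.vec (f i) 0 = 0 from Int.cast_injective (α := ℂ) (by
        rw [t.vec_spec, Twist.vecC_eq_sub, sub_self, Int.cast_zero]), Int.cast_zero, zero_mul]
  have hall : ∑ k : ZMod p, (f i : G → ℂ) (s.zp k) * conj ((f i : G → ℂ) (s.zp k)) =
      (p : ℂ) * e := by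
    simp only [hval, map_sum, map_mul, map_intCast, conj_stdAddChar, Finset.sum_mul,
      Finset.mul_sum]
    rw [Finset.sum_comm]
    have h1 : ∀ r : ZMod p, ∑ k : ZMod p, ∑ r' : ZMod p,
        (t.vec (f i) r' : ℂ) * (ZMod.stdAddChar (r' * k) : ℂ) *
          ((t.vec (f i) r : ℂ) * ZMod.stdAddChar (-(r * k))) =
        (p : ℂ) * ((t.vec (f i) r * t.vec (f i) r : ℤ) : ℂ) := by
      intro r
      rw [Finset.sum_comm, Finset.sum_eq_single r]
      · rw [Finset.sum_congr rfl (g := fun _ => ((t.vec (f i) r * t.vec (f i) r : ℤ) : ℂ))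
          fun k _ => ?_, Finset.sum_const, Finset.card_univ, ZMod.card, nsmul_eq_mul]
        rw [mul_mul_mul_comm, ← AddChar.map_add_eq_mul, add_neg_cancel, AddChar.map_zero_eq_one]
        push_cast
        ring
      · intro r' _ hr
        rw [Finset.sum_congr rfl (g := fun k => (t.vec (f i) r' : ℂ) * (t.vec (f i) r : ℂ) *
          (ZMod.stdAddChar (k * (r' - r)) : ℂ)) fun k _ => ?_, ← Finset.mul_sum, sum_stdAddChar,
          if_neg (sub_ne_zero.mpr hr), mul_zero]
        rw [mul_mul_mul_comm, ← AddChar.map_add_eq_mul]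
        congr 2
        ring
      · simp
    rw [Finset.sum_congr rfl fun r _ => h1 r, ← Finset.mul_sum, ← Int.cast_sum,
      sum_vec s t (f i) (fun x => x * x) (mul_zero 0), hauto,
      Finset.sum_congr rfl fun o _ => by rw [hvf o i], Finset.sum_eq_single i]
    · rw [if_pos rfl]
      rcases hε with h | h <;> simp [h]
    · intro o _ ho; simp [ho]
    · simp
  have h0 : (f i : G → ℂ) (s.zp 0) * conj ((f i : G → ℂ) (s.zp 0)) = (e : ℂ) ^ 2 := by
    have h3 : (charDegree (f i : G → ℂ) : ℤ) = (e : ℤ) * ε := by rw [hdeg, hm, hu']; simp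
    have h3' : ((charDegree (f i : G → ℂ) : ℕ) : ℂ) = (e : ℂ) * ε := by exact_mod_cast h3
    rw [s.zp_zero, irr_one_eq, h3']
    rcases hε with h | h <;> simp [h, sq]
  rw [← Finset.add_sum_erase _ _ (Finset.mem_univ (0 : ZMod p)), h0] at hall
  linear_combination hall

/-- Without fusion a faithful irreducible character of small degree centralizes `z`. -/
theorem mem_center_of_no_fusion (χ : IrrCharacter G)
    (hf : ∀ g : G, (χ : G → ℂ) g = (χ : G → ℂ) 1 → g = 1)
    (hn : 2 * charDegree (χ : G → ℂ) < p)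
    (hNC : Subgroup.normalizer ((Subgroup.zpowers s.z : Subgroup G) : Set G) ≤
      Subgroup.centralizer ({s.z} : Set G)) :
    s.z ∈ Subgroup.center G := by
  classical
  have hp : p.Prime := Fact.out
  obtain ⟨M, hM⟩ := Blocks88.exists_isPModular hp
  haveI := BlocksCore.isPrime hM
  set n := charDegree (χ : G → ℂ) with hnd
  have hn0 : 0 < n := charDegree_pos χ
  have hpn : ¬ p ∣ n := fun h => by have := Nat.le_of_dvd hn0 h; omega
  have hB : IsPBlock M (blockOf M (χ : G → ℂ)) := isPBlock_blockOf χ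
  have hχB := mem_blockOf_self (M := M) χ
  have hd : blockDefect p (blockOf M (χ : G → ℂ)) = 1 :=
    (blockDefect_of_not_dvd hχB hpn).trans (factorization_eq_one s hidx)
  have hBP := isDefectGroup_zpowers hM s hidx hB hd
  obtain ⟨t, hind⟩ := exists_twist_of_setup hM s hB hBP
  haveI := Fintype.ofFinite t.Orb
  have hauto : t.auto = ⊥ := by
    rw [eq_bot_iff]
    rintro a ⟨g, hg, ha⟩
    rw [Subgroup.mem_bot]
    refine Units.ext (s.zp_injective ?_)
    rw [← ha, Units.val_one, s.zp_one,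
      Subgroup.mem_centralizer_singleton_iff.mp (hNC (t.T_le_normalizer hg)), mul_inv_cancel_right]
  have hauto1 : Nat.card t.auto = 1 := by rw [hauto, Subgroup.card_bot]
  have hq : t.T.relIndex (Subgroup.normalizer ((Subgroup.zpowers s.z : Subgroup G) : Set G)) = 1 :=
    Subgroup.relIndex_eq_one.mpr (hNC.trans (t.hC ▸ t.C_le_T))
  set d := charDegree (t.θ : t.C → ℂ) with hdθ
  obtain ⟨f, c, ε, hε, -, -, hvf, hcx, -⟩ := t.exists_shape hM hind hBP hidx
  have hmod := t.charDegree_modEq hM hind hBP hχB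
  rw [hq, hauto1, one_mul, Nat.cast_one, one_mul, ← hnd] at hmod
  have hkey : (∀ k : ZMod p, k ≠ 0 → ‖t.phi (χ : G → ℂ) k‖ = 1) ∧
      ((∑ o, t.vecO χ o) ≡ 1 [ZMOD p] ∨ (∑ o, t.vecO χ o) ≡ -1 [ZMOD p]) := by
    by_cases hY : ∃ i, f i = χ
    · obtain ⟨i, rfl⟩ := hY
      have hs : ∑ o, t.vecO (f i) o = ε := by
        rw [Finset.sum_congr rfl fun o _ => hvf o i, Finset.sum_ite_eq', if_pos (Finset.mem_univ i)]
      refine ⟨fun k hk => ?_, by rcases hε with h | h <;> simp [hs, h, Int.ModEq.refl]⟩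
      obtain ⟨r₀, rfl⟩ := QuotientGroup.mk_surjective i
      rw [t.phi_eq_sum_vec _ hk, Finset.sum_eq_single (r₀ : ZMod p)]
      · rw [t.vec_eq_vecO, hvf, if_pos rfl, norm_mul]
        have h1 : ‖(ZMod.stdAddChar ((r₀ : ZMod p) * k) : ℂ)‖ = 1 :=
          Complex.norm_eq_one_of_pow_eq_one (by
            rw [← AddChar.map_nsmul_eq_pow, nsmul_eq_mul, ZMod.natCast_self, zero_mul,
              AddChar.map_zero_eq_one]) hp.ne_zero
        rw [h1, mul_one]
        rcases hε with h | h <;> simp [h]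
      · intro r hr hne
        have h1 := t.vec_eq_vecO (f (r₀ : t.Orb)) (Units.mk0 r (Finset.ne_of_mem_erase hr))
        rw [Units.val_mk0] at h1
        rw [h1, hvf, if_neg, Int.cast_zero, zero_mul]
        intro h
        rw [QuotientGroup.eq, hauto, Subgroup.mem_bot, inv_mul_eq_one] at h
        exact hne (congrArg Units.val h)
      · exact fun h => absurd (Finset.mem_erase.mpr ⟨r₀.ne_zero, Finset.mem_univ _⟩) h
    · push Not at hY
      obtain ⟨hc1, hc2⟩ := hcx χ hχB hY
      refine ⟨fun k hk => ?_, ?_⟩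
      · rw [t.phi_of_const χ (c χ) hc2 hk]
        rcases hc1 with h | h <;> simp [h]
      · have hr : Fintype.card t.Orb = p - 1 := by
          have := t.card_orb_mul
          rwa [hauto1, mul_one, Nat.card_eq_fintype_card] at this
        rw [Finset.sum_congr rfl fun o _ => hc2 o, Finset.sum_const, Finset.card_univ,
          nsmul_eq_mul, hr, Nat.cast_sub hp.one_le]
        rcases hc1 with h | h
        · right; rw [h, Int.modEq_iff_dvd]; exact ⟨-1, by push_cast; ring⟩
        · left; rw [h, Int.modEq_iff_dvd]; exact ⟨1, by push_cast; ring⟩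
  obtain ⟨F, hF, hval⟩ := t.apply_zp hM hind hBP one_ne_zero hχB
  have hnorm : ‖(χ : G → ℂ) s.z‖ = (d : ℝ) := by
    rw [← s.zp_one, hval]
    have : ∑ i, t.phi (χ : G → ℂ) (F i) = t.phi (χ : G → ℂ) (F ⟨0, by rw [hq]; norm_num⟩) := by
      refine Finset.sum_eq_single _ (fun i _ hi => absurd (Fin.ext ?_) hi) (by simp)
      have := i.2
      simp only [hq] at this ⊢
      omega
    rw [this, norm_mul, hkey.1 _ (hF _), mul_one, irr_one_eq, Complex.norm_natCast]
  have hle : d ≤ n := by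
    have h := CharCore.IsCharacter.norm_apply_le (CharCore.irr_isCharacter χ) s.z
    rw [hnorm, irr_one_eq, Complex.norm_natCast] at h
    exact_mod_cast h
  have hd0 : 0 < d := charDegree_pos t.θ
  have hdn : d = n := by
    rcases hkey.2 with h | h
    · have h2 := hmod.trans (h.mul_left _)
      rw [mul_one, Int.natCast_modEq_iff, Nat.ModEq, Nat.mod_eq_of_lt (by omega),
        Nat.mod_eq_of_lt (by omega)] at h2
      exact h2.symm
    · have h2 := Int.modEq_iff_dvd.mp (hmod.trans (h.mul_left _))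
      rw [mul_neg_one, show -(d : ℤ) - n = -((d + n : ℕ) : ℤ) by push_cast; ring, dvd_neg,
        Int.natCast_dvd_natCast] at h2
      have := Nat.le_of_dvd (by omega) h2
      omega
  obtain ⟨k, ρ, hρ, hρχ⟩ := χ.2
  obtain ⟨a, ha⟩ := CharClifford.exists_scalar_of_norm_character_eq ρ s.z (by
    rw [hρχ, hnorm, hdn]
    have h1 : ((χ : G → ℂ)) 1 = (n : ℂ) := irr_one_eq χ
    rw [← hρχ, ρ.char_one] at h1
    exact_mod_cast h1.symm)
  rw [Subgroup.mem_center_iff]
  intro g
  have h1 : ρ (g * s.z * g⁻¹ * s.z⁻¹) = 1 := by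
    have e : ρ g * ρ s.z = ρ s.z * ρ g := by rw [ha]; simp
    rw [map_mul, map_mul, map_mul, e, mul_assoc (ρ s.z), ← map_mul ρ g, mul_inv_cancel, map_one,
      mul_one, ← map_mul, mul_inv_cancel, map_one]
  have h2 := hf (g * s.z * g⁻¹ * s.z⁻¹) (by
    rw [← hρχ]; simp only [Representation.character, h1, map_one])
  rw [mul_inv_eq_one, mul_inv_eq_iff_eq_mul] at h2
  exact h2

end Cfsg.Agent.BlkChar.SmallDegree
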