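import Cfsg.Agent.BlkChar.SmallDegree.Reduction
import Cfsg.Agent.BlkChar.SmallDegree.Central
import Cfsg.Agent.BlkChar.SmallDegree.Count
import Mathlib.GroupTheory.Abelianization.Defs
import Mathlib.LinearAlgebra.Matrix.ToLin

/-!
# Brauer: faithful characters of degree below `(p - 1) / 2`

If `p` divides the order exactly once and there is a faithful character of degree less than
`(p - 1) / 2`, the Sylow `p`-subgroup is normal.
-/

set_option linter.unusedSectionVars false

open scoped ComplexConjugate commutatorElement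

namespace Cfsg.Agent.BlkChar.SmallDegree

open BlocksCore SmallGroups.SelfCent

/-- A normal subgroup of order `p` and index prime to `p` contains all elements of order `p`. -/
theorem mem_of_pow_eq_one {G : Type*} [Group G] [Finite G] {p : ℕ} (hp : p.Prime)
    {H : Subgroup G} [H.Normal] (hi : ¬ p ∣ H.index) {y : G} (hy : y ^ p = 1) : y ∈ H := by
  rw [← QuotientGroup.eq_one_iff, ← orderOf_eq_one_iff]
  have h1 : orderOf (y : G ⧸ H) ∣ p :=
    orderOf_dvd_of_pow_eq_one (by rw [← QuotientGroup.mk_pow, hy, QuotientGroup.mk_one])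
  have h2 : orderOf (y : G ⧸ H) ∣ H.index := by
    rw [Subgroup.index]
    exact orderOf_dvd_natCard _
  exact Nat.dvd_one.mp ((hp.coprime_iff_not_dvd.mpr hi) ▸ Nat.dvd_gcd h1 h2)

/-- Bounded summands with the largest possible sum are all largest. -/
theorem eq_of_sum_eq {ι : Type*} [Fintype ι] (f : ι → ℂ) (d : ℕ) (hf : ∀ i, ‖f i‖ ≤ (d : ℝ))
    (hs : ∑ i, f i = (Fintype.card ι : ℂ) * d) (i : ι) : f i = d := by
  have hre : ∀ j, (f j).re ≤ (d : ℝ) := fun j => (Complex.re_le_norm _).trans (hf j)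
  have hsum : ∑ j, ((d : ℝ) - (f j).re) = 0 := by
    have h : (∑ j, f j).re = ((Fintype.card ι : ℂ) * d).re := by rw [hs]
    rw [Complex.re_sum] at h
    simp only [Complex.mul_re, Complex.natCast_re, Complex.natCast_im, mul_zero, sub_zero] at h
    rw [Finset.sum_sub_distrib, Finset.sum_const, Finset.card_univ, nsmul_eq_mul, h, sub_self]
  have h1 := (Finset.sum_eq_zero_iff_of_nonneg fun j _ => sub_nonneg.mpr (hre j)).mp hsum i
    (Finset.mem_univ i)
  have h2 : (f i).re = d := by linarith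
  have h3 : Complex.normSq (f i) ≤ (d : ℝ) ^ 2 := by
    rw [Complex.normSq_eq_norm_sq]
    exact pow_le_pow_left₀ (norm_nonneg _) (hf i) 2
  rw [Complex.normSq_apply, h2] at h3
  have h4 : (f i).im = 0 := mul_self_eq_zero.mp (le_antisymm (by nlinarith) (mul_self_nonneg _))
  exact Complex.ext (by simp [h2]) (by simp [h4])

/-- Characters of degree one are trivial on commutators. -/
theorem apply_commutator_of_degree_one {G : Type*} [Group G] {n : ℕ}
    (ρ : Representation ℂ G (Fin n → ℂ)) (hn : n = 1) (a b : G) : ρ (a * b * a⁻¹ * b⁻¹) = 1 := by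
  subst hn
  have hc : ∀ f g : Module.End ℂ (Fin 1 → ℂ), f * g = g * f := by
    intro f g
    apply LinearMap.toMatrix'.injective
    rw [LinearMap.toMatrix'_mul, LinearMap.toMatrix'_mul]
    ext i j
    fin_cases i; fin_cases j
    simp [Matrix.mul_apply, mul_comm]
  rw [map_mul, map_mul, map_mul, hc (ρ a) (ρ b), mul_assoc (ρ b), ← map_mul ρ a, mul_inv_cancel,
    map_one, mul_one, ← map_mul, mul_inv_cancel, map_one]

section Faithful

variable {G : Type*} [Group G] [Fintype G] {p : ℕ} [Fact p.Prime] (s : Setup G p)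

/-- The count for an irreducible character when all proper normal subgroups and `K` are
central. -/
theorem false_of_central (hidx : ¬ p ∣ (Subgroup.zpowers s.z).index)
    (hK : s.K ≤ Subgroup.center G)
    (hsimple : ∀ H : Subgroup G, H.Normal → H ≠ ⊤ → H ≤ Subgroup.center G)
    (hnz : s.z ∉ Subgroup.center G)
    (hfus : ∃ g ∈ Subgroup.normalizer ((Subgroup.zpowers s.z : Subgroup G) : Set G),
      g ∉ Subgroup.centralizer ({s.z} : Set G))
    (χ : IrrCharacter G) (h2 : 2 ≤ charDegree (χ : G → ℂ))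
    (hn : 2 * charDegree (χ : G → ℂ) + 1 < p) : False := by
  classical
  have hp : p.Prime := Fact.out
  set e := (Subgroup.centralizer ({s.z} : Set G)).relIndex
      (Subgroup.normalizer ((Subgroup.zpowers s.z : Subgroup G) : Set G)) with he
  obtain ⟨t, ht, -⟩ := exists_central_twist s hK χ
  have hedvd : e ∣ p - 1 := by rw [← t.card_orb_mul, ht]; exact dvd_mul_left _ _
  set n := charDegree (χ : G → ℂ) with hnd
  have hp5 : (5 : ℤ) ≤ p := by omega
  -- the degree
  obtain ⟨hne, hnorm⟩ : n = e ∧ ∑ k ∈ Finset.univ.erase (0 : ZMod p), (χ : G → ℂ) (s.zp k) *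
      conj ((χ : G → ℂ) (s.zp k)) = (p : ℂ) * e - (e : ℂ) ^ 2 := by
    obtain ⟨m0, u, hdeg, -, hcase⟩ := degree_split s hidx hK χ e he.symm
    rw [← hnd] at hdeg
    have hn' : 2 * (n : ℤ) + 1 < p := by exact_mod_cast hn
    rcases hcase with h | h | ⟨h, hm⟩ | ⟨h | ⟨h, hm⟩, hnm⟩
    · exfalso
      subst h
      rcases Nat.eq_zero_or_pos m0 with h0 | h0
      · subst h0; simp at hdeg; omega
      · have : (p : ℤ) * 1 ≤ p * m0 := by gcongr; exact_mod_cast h0
        omega
    · exfalso
      have : (0 : ℤ) ≤ p * m0 := by positivity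
      omega
    · exfalso
      rcases Nat.lt_or_ge m0 2 with h0 | h0
      · obtain rfl : m0 = 1 := by omega
        simp at hdeg
        omega
      · have : (p : ℤ) * 2 ≤ p * m0 := by gcongr; exact_mod_cast h0
        omega
    · rcases Nat.eq_zero_or_pos m0 with h0 | h0
      · subst h0
        simp at hdeg
        exact ⟨by omega, hnm rfl⟩
      · exfalso
        have : (p : ℤ) * 1 ≤ p * m0 := by gcongr; exact_mod_cast h0
        omega
    · exfalso
      have hm1 : (p : ℤ) * 1 ≤ p * m0 := by gcongr; exact_mod_cast hm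
      obtain ⟨q, hq⟩ := hedvd
      rcases Nat.lt_or_ge q 2 with hq2 | hq2
      · interval_cases q
        · omega
        · rw [mul_one] at hq
          rcases Nat.lt_or_ge m0 2 with h0 | h0
          · obtain rfl : m0 = 1 := by omega
            simp at hdeg
            omega
          · have : (p : ℤ) * 2 ≤ p * m0 := by gcongr; exact_mod_cast h0
            omega
      · have : e * 2 ≤ e * q := by gcongr
        omega
  -- decomposition of `χ * conj χ`
  set φ : G → ℂ := fun g => (χ : G → ℂ) g * conj ((χ : G → ℂ) g) with hφ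
  have hφc : IsCharacter G φ := CharCore.isCharacter_mul (CharCore.irr_isCharacter χ)
    (CharCore.IsCharacter.star (CharCore.irr_isCharacter χ))
  choose a ha using fun ψ : IrrCharacter G =>
    CharCore.IsCharacter.exists_classInner_eq_natCast hφc (CharCore.irr_isCharacter ψ)
  have hdec : ∀ g, φ g = ∑ ψ : IrrCharacter G, (a ψ : ℂ) * (ψ : G → ℂ) g := fun g => by
    conv_lhs => rw [CharCore.IsCharacter.eq_sum_classInner hφc]
    simp [ha]
  choose m u hdeg hS hcase using fun ψ : IrrCharacter G => degree_split s hidx hK ψ e he.symm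
  let one : IrrCharacter G := ⟨fun _ => 1, CharCore.isIrrCharacter_one⟩
  have hone_deg : charDegree (one : G → ℂ) = 1 := by
    simp [charDegree, one]
  have hone_a : a one = 1 := by
    have h1 := ha one
    have h2 := CharCore.classInner_irr_self χ
    rw [CharCore.classInner_def] at h1 h2
    have h3 : ((a one : ℕ) : ℂ) = 1 := by
      rw [← h1, ← h2]
      simp [hφ, one]
    exact_mod_cast h3
  have hone_u : u one = -((p : ℤ) - 1) := by
    have h := hS one
    simp only [one, Finset.sum_const, Finset.card_erase_of_mem (Finset.mem_univ (0 : ZMod p)),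
      Finset.card_univ, ZMod.card, nsmul_eq_mul, mul_one] at h
    rw [Nat.cast_sub hp.one_le, Nat.cast_one] at h
    apply Int.cast_injective (α := ℂ)
    push_cast
    linear_combination h
  -- degree and sum over `⟨z⟩`
  have hsum1 : ((e : ℤ)) ^ 2 = ∑ ψ, (a ψ : ℤ) * (charDegree (ψ : G → ℂ) : ℤ) := by
    apply Int.cast_injective (α := ℂ)
    have h := hdec 1
    simp only [hφ, irr_one_eq, Complex.conj_natCast, ← hnd] at h
    rw [hne] at h
    push_cast
    rw [← h, sq]
  have hsum2 : (p : ℤ) * e - (e : ℤ) ^ 2 = ∑ ψ, (a ψ : ℤ) * (-(u ψ)) := by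
    apply Int.cast_injective (α := ℂ)
    have h : ∑ k ∈ Finset.univ.erase (0 : ZMod p), φ (s.zp k) =
        (p : ℂ) * e - (e : ℂ) ^ 2 := hnorm
    simp only [hdec] at h
    rw [Finset.sum_comm] at h
    simp only [← Finset.mul_sum, hS] at h
    push_cast
    rw [← h]
  -- linear characters are trivial
  have hlin : ∀ ψ : IrrCharacter G, charDegree (ψ : G → ℂ) = 1 → ψ = one := by
    intro ψ h1
    obtain ⟨k, ρ, hρ, hρψ⟩ := ψ.2
    have hk : k = 1 := by
      have h := irr_one_eq ψ
      rw [h1, ← hρψ, ρ.char_one, Module.finrank_fin_fun] at h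
      exact_mod_cast h
    have hker : commutator G ≤ CharCore.charKernel (CharCore.irr_isCharacter ψ) := by
      rw [commutator_def, Subgroup.commutator_le]
      intro x _ y _
      rw [CharCore.mem_charKernel, ← hρψ, commutatorElement_def]
      show LinearMap.trace ℂ _ (ρ (x * y * x⁻¹ * y⁻¹)) = LinearMap.trace ℂ _ (ρ 1)
      rw [apply_commutator_of_degree_one ρ hk, map_one ρ]
    have htop : CharCore.charKernel (CharCore.irr_isCharacter ψ) = ⊤ := by
      rw [eq_top_iff]
      refine le_trans ?_ hker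
      by_contra hne'
      rw [top_le_iff] at hne'
      have hle := hsimple _ inferInstance hne'
      obtain ⟨g, hgN, hgC⟩ := hfus
      obtain ⟨b, hb⟩ := CyclicTwist.exists_conj_eq hgN
      have hc : s.zp ((b : ZMod p) - 1) ∈ Subgroup.center G := by
        refine hle ?_
        have : s.zp ((b : ZMod p) - 1) = ⁅g, s.z⁆ := by
          rw [commutatorElement_def, hb, ← s.zp_one, sub_eq_add_neg, s.zp_add]
          congr 1
          exact (inv_eq_of_mul_eq_one_right (by rw [← s.zp_add, add_neg_cancel, s.zp_zero])).symm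
        rw [this, commutator_def]
        exact Subgroup.commutator_mem_commutator (Subgroup.mem_top _) (Subgroup.mem_top _)
      by_cases hb1 : (b : ZMod p) - 1 = 0
      · rw [sub_eq_zero] at hb1
        rw [hb1, s.zp_one, mul_inv_eq_iff_eq_mul] at hb
        exact hgC (Subgroup.mem_centralizer_singleton_iff.mpr hb)
      · refine hnz ?_
        have hz : s.z = s.zp ((b : ZMod p) - 1) ^ (((b : ZMod p) - 1)⁻¹).val := by
          rw [s.zp_pow, ZMod.natCast_zmod_val, mul_inv_cancel₀ hb1, s.zp_one]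
        rw [hz]
        exact pow_mem hc _
    refine Subtype.ext (funext fun g => ?_)
    have hg : g ∈ CharCore.charKernel (CharCore.irr_isCharacter ψ) := htop ▸ Subgroup.mem_top g
    rw [CharCore.mem_charKernel] at hg
    rw [hg, irr_one_eq, h1, Nat.cast_one]
  have hen : 2 * (e : ℤ) + 1 < p := by rw [← hne]; exact_mod_cast hn
  have hbound : ∀ ψ, ψ ≠ one → (p : ℤ) * (-(u ψ)) ≤ ((p : ℤ) - 1) * charDegree (ψ : G → ℂ) := by
    intro ψ hψ
    have hd0 : (0 : ℤ) ≤ (charDegree (ψ : G → ℂ) : ℤ) := Nat.cast_nonneg _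
    have hp1 : (0 : ℤ) ≤ (p : ℤ) - 1 := by omega
    rcases hcase ψ with h | h | ⟨h, hm⟩ | ⟨h | ⟨h, hm⟩, -⟩
    · rw [h]; nlinarith
    · rw [h]; nlinarith
    · rcases Nat.lt_or_ge (m ψ) 2 with h0 | h0
      · refine absurd (hlin ψ ?_) hψ
        have hm1 : m ψ = 1 := by omega
        have h1 := hdeg ψ
        rw [h, hm1] at h1
        push_cast at h1
        omega
      · have h1 : (p : ℤ) * 2 ≤ p * (m ψ : ℤ) := by gcongr; exact_mod_cast h0
        rw [hdeg ψ, h]
        nlinarith
    · rw [h]; nlinarith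
    · have h1 : (p : ℤ) * 1 ≤ p * (m ψ : ℤ) := by gcongr; exact_mod_cast hm
      rw [hdeg ψ, h]
      nlinarith
  have hfin : (p : ℤ) * ((p : ℤ) * e - (e : ℤ) ^ 2) ≤
      (p : ℤ) * ((p : ℤ) - 1) + ((p : ℤ) - 1) * ((e : ℤ) ^ 2 - 1) := by
    have h0 : ∀ ψ ∈ (Finset.univ : Finset (IrrCharacter G)).erase one,
        (p : ℤ) * ((a ψ : ℤ) * -(u ψ)) ≤
          ((p : ℤ) - 1) * ((a ψ : ℤ) * (charDegree (ψ : G → ℂ) : ℤ)) := by
      intro ψ hψ
      have hb := mul_le_mul_of_nonneg_left (hbound ψ (Finset.ne_of_mem_erase hψ))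
        (Nat.cast_nonneg (α := ℤ) (a ψ))
      linarith
    have h1 := Finset.sum_le_sum h0
    rw [← Finset.mul_sum, ← Finset.mul_sum] at h1
    have hs2 : (p : ℤ) * e - (e : ℤ) ^ 2 = ((p : ℤ) - 1) +
        ∑ ψ ∈ (Finset.univ : Finset (IrrCharacter G)).erase one, (a ψ : ℤ) * -(u ψ) := by
      rw [hsum2, ← Finset.add_sum_erase _ _ (Finset.mem_univ one), hone_a, hone_u]
      push_cast
      ring
    have hs1 : ∑ ψ ∈ (Finset.univ : Finset (IrrCharacter G)).erase one,
        (a ψ : ℤ) * (charDegree (ψ : G → ℂ) : ℤ) = (e : ℤ) ^ 2 - 1 := by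
      rw [hsum1, ← Finset.add_sum_erase _ _ (Finset.mem_univ one), hone_a, hone_deg]
      push_cast
      ring
    rw [hs1] at h1
    rw [hs2, mul_add]
    linarith
  have he2 : (2 : ℤ) ≤ e := by rw [← hne]; exact_mod_cast h2
  obtain ⟨j, hj⟩ := hp.odd_of_ne_two (by omega)
  have hpe : (2 : ℤ) * e + 2 ≤ p := by omega
  nlinarith [mul_nonneg (mul_nonneg (Nat.cast_nonneg (α := ℤ) p) (sub_nonneg.mpr (show (1 : ℤ) ≤ e by omega)))
    (sub_nonneg.mpr hpe)]

end Faithful

universe u

/-- Brauer: below degree `(p - 1) / 2` the Sylow subgroup of order `p` is normal. -/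
theorem exists_normal_aux (p : ℕ) (hp : p.Prime) : ∀ (N : ℕ) (G : Type u) [Group G] [Finite G],
    Nat.card G = N → p ∣ Nat.card G → ¬ p ^ 2 ∣ Nat.card G → ∀ (χ : G → ℂ), IsCharacter G χ →
    (∀ g : G, χ g = χ 1 → g = 1) → 2 * charDegree χ + 1 < p →
    ∃ H : Subgroup G, H.Normal ∧ Nat.card H = p := by
  intro N
  induction N using Nat.strong_induction_on with
  | _ N IH => ?_
  intro G _ _ hN hdvd hsq χ hχ hf hdeg
  classical
  subst hN
  haveI := Fact.mk hp
  haveI := Fintype.ofFinite G
  obtain ⟨z, hz⟩ := exists_prime_orderOf_dvd_card' p hdvd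
  have hzc : Nat.card (Subgroup.zpowers z) = p := by rw [Nat.card_zpowers, hz]
  have hidx : ¬ p ∣ (Subgroup.zpowers z).index := fun h => hsq (by
    rw [← Subgroup.card_mul_index (Subgroup.zpowers z), hzc, pow_two]
    exact Nat.mul_dvd_mul_left p h)
  obtain ⟨s, hs⟩ := BlocksCore.CyclicCount.exists_setup hz hidx
  subst hs
  by_contra hno
  have hnot : ¬ (Subgroup.zpowers s.z).Normal := fun h => hno ⟨_, h, hzc⟩
  have hP : IsPGroup p (Subgroup.zpowers s.z) := IsPGroup.of_card (n := 1) (by rw [hzc, pow_one])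
  -- the induction hypothesis in a subgroup
  have hsub : ∀ W : Subgroup G, s.z ∈ W → W ≠ ⊤ → ∀ w ∈ W, w * s.z * w⁻¹ ∈ Subgroup.zpowers s.z := by
    intro W hzW hW w hw
    have hlt : Nat.card W < Nat.card G :=
      lt_of_le_of_ne (Subgroup.card_le_card_group W) fun h => hW (Subgroup.eq_top_of_card_eq W h)
    have hd : p ∣ Nat.card W :=
      hzc ▸ Subgroup.card_dvd_of_le (Subgroup.zpowers_le.mpr hzW)
    have hsq' : ¬ p ^ 2 ∣ Nat.card W := fun h => hsq (h.trans (Subgroup.card_subgroup_dvd_card W))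
    obtain ⟨H, hH, hHc⟩ := IH _ hlt W rfl hd hsq' (fun w : W => χ w)
      (CharCore.isCharacter_restrict hχ W) (fun g hg => Subtype.ext (hf g hg)) hdeg
    have hi : ¬ p ∣ H.index := fun h => hsq' (by
      rw [← Subgroup.card_mul_index H, hHc, pow_two]
      exact Nat.mul_dvd_mul_left p h)
    have hzp1 : s.z ^ p = 1 := by
      have h := pow_orderOf_eq_one s.z
      rwa [s.orderOf_z] at h
    have h1 : (⟨s.z, hzW⟩ : W) ∈ H := mem_of_pow_eq_one hp hi (Subtype.ext hzp1)
    have h2 : (⟨w, hw⟩ : W) * ⟨s.z, hzW⟩ * (⟨w, hw⟩ : W)⁻¹ ∈ H := hH.conj_mem _ h1 _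
    have h3 : Subgroup.zpowers s.z = H.map W.subtype := by
      refine Subgroup.eq_of_le_of_card_ge (Subgroup.zpowers_le.mpr ⟨_, h1, rfl⟩) ?_
      rw [Subgroup.card_map_of_injective W.subtype_injective, hHc, hzc]
    rw [h3]
    exact ⟨_, h2, rfl⟩
  -- normal subgroups containing `z` are everything
  have hclosure : ∀ W : Subgroup G, W.Normal → s.z ∈ W → W = ⊤ := by
    intro W hWn hzW
    by_contra hW
    refine hnot ⟨fun x hx g => ?_⟩
    obtain ⟨i, rfl⟩ := Subgroup.mem_zpowers_iff.mp hx
    rw [← conj_zpow]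
    refine zpow_mem ?_ i
    -- `g z g⁻¹` has order `p` inside `W`
    have hgz : g * s.z * g⁻¹ ∈ W := hWn.conj_mem _ hzW g
    have hlt : Nat.card W < Nat.card G :=
      lt_of_le_of_ne (Subgroup.card_le_card_group W) fun h => hW (Subgroup.eq_top_of_card_eq W h)
    have hd : p ∣ Nat.card W :=
      hzc ▸ Subgroup.card_dvd_of_le (Subgroup.zpowers_le.mpr hzW)
    have hsq' : ¬ p ^ 2 ∣ Nat.card W := fun h => hsq (h.trans (Subgroup.card_subgroup_dvd_card W))
    obtain ⟨H, hH, hHc⟩ := IH _ hlt W rfl hd hsq' (fun w : W => χ w)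
      (CharCore.isCharacter_restrict hχ W) (fun g hg => Subtype.ext (hf g hg)) hdeg
    have hi : ¬ p ∣ H.index := fun h => hsq' (by
      rw [← Subgroup.card_mul_index H, hHc, pow_two]
      exact Nat.mul_dvd_mul_left p h)
    have hzp1 : s.z ^ p = 1 := by
      have h := pow_orderOf_eq_one s.z
      rwa [s.orderOf_z] at h
    have h1 : (⟨s.z, hzW⟩ : W) ∈ H := mem_of_pow_eq_one hp hi (Subtype.ext hzp1)
    have h2 : (⟨g * s.z * g⁻¹, hgz⟩ : W) ∈ H := mem_of_pow_eq_one hp hi
      (Subtype.ext (by push_cast; rw [conj_pow, hzp1, mul_one, mul_inv_cancel]))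
    have h3 : Subgroup.zpowers s.z = H.map W.subtype := by
      refine Subgroup.eq_of_le_of_card_ge (Subgroup.zpowers_le.mpr ⟨_, h1, rfl⟩) ?_
      rw [Subgroup.card_map_of_injective W.subtype_injective, hHc, hzc]
    rw [h3]
    exact ⟨_, h2, rfl⟩
  have hpdvd : ∀ U : Subgroup G, U.Normal → U ≠ ⊤ → ¬ p ∣ Nat.card U := by
    intro U hU hUt hd
    obtain ⟨y, hy⟩ := exists_prime_orderOf_dvd_card' p hd
    have hyo : orderOf (y : G) = p := by rw [Subgroup.orderOf_coe, hy]
    obtain ⟨Q, hQ⟩ := (IsPGroup.of_card (n := 1) (by rw [Nat.card_zpowers, hyo, pow_one]) :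
      IsPGroup p (Subgroup.zpowers (y : G))).exists_le_sylow
    obtain ⟨x, hx⟩ := MulAction.exists_smul_eq G Q (hP.toSylow hidx)
    have hmem : x * y * x⁻¹ ∈ Subgroup.zpowers s.z := by
      have : x * y * x⁻¹ ∈ ((x • Q : Sylow p G) : Subgroup G) :=
        ⟨(y : G), hQ (Subgroup.mem_zpowers _), rfl⟩
      rw [hx] at this
      exact this
    have hne : x * y * x⁻¹ ≠ 1 := fun h => by
      rw [conj_eq_one_iff] at h
      rw [h, orderOf_one] at hyo
      exact hp.ne_one hyo.symm
    have heq := (⟨rfl, s.orderOf_z, hidx⟩ :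
      StableHom.Setting p (Subgroup.zpowers s.z) s.z).zpowers_eq_of_mem hmem hne
    refine hUt (hclosure U hU ?_)
    have hz' : s.z ∈ Subgroup.zpowers (x * y * x⁻¹) := heq ▸ Subgroup.mem_zpowers _
    exact (Subgroup.zpowers_le.mpr (hU.conj_mem _ y.2 x)) hz'
  have hnz : s.z ∉ Subgroup.center G := fun h => hnot
    ⟨fun x hx g => by
      obtain ⟨i, rfl⟩ := Subgroup.mem_zpowers_iff.mp hx
      rw [Subgroup.mem_center_iff.mp (zpow_mem h i) g, mul_inv_cancel_right]
      exact hx⟩
  obtain ⟨d, hd⟩ := CharCore.IsCharacter.exists_degree hχ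
  have hχd : charDegree χ = d := by rw [charDegree, hd, Complex.natCast_re, Nat.floor_natCast]
  -- a faithful irreducible constituent
  obtain ⟨ψ, hψf, hψd⟩ : ∃ ψ : IrrCharacter G,
      (∀ g : G, (ψ : G → ℂ) g = (ψ : G → ℂ) 1 → g = 1) ∧ charDegree (ψ : G → ℂ) ≤ d := by
    choose a ha using fun ψ : IrrCharacter G =>
      CharCore.IsCharacter.exists_classInner_eq_natCast hχ (CharCore.irr_isCharacter ψ)
    have hdec : ∀ g, χ g = ∑ ψ : IrrCharacter G, (a ψ : ℂ) * (ψ : G → ℂ) g := fun g => by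
      conv_lhs => rw [CharCore.IsCharacter.eq_sum_classInner hχ]
      simp [ha]
    have hsum : d = ∑ ψ : IrrCharacter G, a ψ * charDegree (ψ : G → ℂ) := by
      have h := hdec 1
      rw [hd, Finset.sum_congr rfl fun ψ _ => by rw [irr_one_eq]] at h
      exact_mod_cast h
    have hle : ∀ ψ, a ψ ≠ 0 → charDegree (ψ : G → ℂ) ≤ d := fun ψ h => by
      rw [hsum]
      refine le_trans ?_ (Finset.single_le_sum (f := fun ψ : IrrCharacter G =>
        a ψ * charDegree (ψ : G → ℂ)) (fun i _ => Nat.zero_le _) (Finset.mem_univ ψ))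
      exact Nat.le_mul_of_pos_left _ (Nat.pos_of_ne_zero h)
    by_contra hex
    push Not at hex
    have hkey : ∀ ψ, a ψ ≠ 0 → ∀ x y : G, (ψ : G → ℂ) ⁅x, y⁆ = (ψ : G → ℂ) 1 := by
      intro ψ hψ x y
      set U := CharCore.charKernel (CharCore.irr_isCharacter ψ) with hU
      by_cases hUt : U = ⊤
      · exact (hUt ▸ Subgroup.mem_top _ : ⁅x, y⁆ ∈ U)
      have hUb : U ≠ ⊥ := fun h => absurd (hle ψ hψ) (not_le.mpr (hex ψ fun g hg =>
        Subgroup.mem_bot.mp (h ▸ hg : g ∈ (⊥ : Subgroup G))))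
      have hpU := hpdvd U inferInstance hUt
      have hlt : Nat.card (G ⧸ U) < Nat.card G := by
        have h1 := Subgroup.card_mul_index U
        have h2 : 1 < Nat.card U := (Subgroup.one_lt_card_iff_ne_bot U).mpr hUb
        have h3 : 0 < U.index := Nat.pos_of_ne_zero Subgroup.index_ne_zero_of_finite
        show U.index < _
        nlinarith
      have hdq : p ∣ Nat.card (G ⧸ U) := by
        have h := hdvd
        rw [← Subgroup.card_mul_index U] at h
        exact (hp.dvd_mul.mp h).resolve_left hpU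
      have hsqq : ¬ p ^ 2 ∣ Nat.card (G ⧸ U) := fun h => hsq (by
        rw [← Subgroup.card_mul_index U]; exact h.mul_left _)
      obtain ⟨ψ', hψ'c, -, hψ'⟩ := CharCore.IsCharacter.exists_quotient
        (CharCore.irr_isCharacter ψ) U (fun k hk => hk)
      have hψ'1 : ψ' 1 = (ψ : G → ℂ) 1 := by rw [hψ' 1, map_one]
      have hf' : ∀ q : G ⧸ U, ψ' q = ψ' 1 → q = 1 := by
        intro q hq
        obtain ⟨g, rfl⟩ := QuotientGroup.mk_surjective q
        rw [QuotientGroup.eq_one_iff, hU, CharCore.mem_charKernel, hψ' g, ← hψ'1]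
        exact hq
      have hdeg' : 2 * charDegree ψ' + 1 < p := by
        have : charDegree ψ' = charDegree (ψ : G → ℂ) := by rw [charDegree, charDegree, hψ'1]
        have := hle ψ hψ
        omega
      obtain ⟨H, hH, hHc⟩ := IH _ hlt _ rfl hdq hsqq ψ' hψ'c hf' hdeg'
      have hi : ¬ p ∣ H.index := fun h => hsqq (by
        rw [← Subgroup.card_mul_index H, hHc, pow_two]
        exact Nat.mul_dvd_mul_left p h)
      have htop := hclosure (H.comap (QuotientGroup.mk' U)) inferInstance
        (mem_of_pow_eq_one hp hi (by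
          have h := pow_orderOf_eq_one s.z
          rw [s.orderOf_z] at h
          rw [← map_pow, h, map_one]))
      have hHtop : H = ⊤ := by
        rw [← Subgroup.map_comap_eq_self_of_surjective (QuotientGroup.mk'_surjective U) H, htop,
          Subgroup.map_top_of_surjective _ (QuotientGroup.mk'_surjective U)]
      rw [hHtop, Subgroup.card_top] at hHc
      haveI : IsCyclic (G ⧸ U) := isCyclic_of_prime_card hHc
      letI := IsCyclic.commGroup (α := G ⧸ U)
      refine (?_ : ⁅x, y⁆ ∈ U)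
      rw [← QuotientGroup.eq_one_iff]
      show (QuotientGroup.mk' U) ⁅x, y⁆ = 1
      rw [map_commutatorElement, commutatorElement_eq_one_iff_commute]
      exact mul_comm _ _
    have hab : ∀ x y : G, x * y = y * x := fun x y => by
      refine commutatorElement_eq_one_iff_mul_comm.mp (hf _ ?_)
      rw [hdec, hdec]
      refine Finset.sum_congr rfl fun ψ _ => ?_
      by_cases h : a ψ = 0
      · simp [h]
      · rw [hkey ψ h x y]
    exact hnz (Subgroup.mem_center_iff.mpr fun g => hab g s.z)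
  have hψn : 2 * charDegree (ψ : G → ℂ) + 1 < p := by omega
  -- fusion
  have hfus : ∃ g ∈ Subgroup.normalizer ((Subgroup.zpowers s.z : Subgroup G) : Set G),
      g ∉ Subgroup.centralizer ({s.z} : Set G) := by
    by_contra h
    push Not at h
    exact hnz (mem_center_of_no_fusion s hidx ψ hψf (by omega) h)
  -- proper normal subgroups are central
  have hsimple : ∀ U : Subgroup G, U.Normal → U ≠ ⊤ → U ≤ Subgroup.center G := by
    intro U hU hUt
    have hpU := hpdvd U hU hUt
    have hint : ∀ y ∈ U, y ∈ Subgroup.zpowers s.z → y = 1 := by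
      intro y h1 h2
      have hd1 : orderOf y ∣ Nat.card U := Subgroup.orderOf_dvd_natCard U h1
      have hd2 : orderOf y ∣ p := hzc ▸ Subgroup.orderOf_dvd_natCard _ h2
      exact orderOf_eq_one_iff.mp
        (Nat.dvd_one.mp ((hp.coprime_iff_not_dvd.mpr hpU) ▸ Nat.dvd_gcd hd2 hd1))
    have hcommz : ∀ u ∈ U, u * s.z * u⁻¹ ∈ Subgroup.zpowers s.z → u * s.z = s.z * u := by
      intro u hu h
      have h1 : u * s.z * u⁻¹ * s.z⁻¹ = 1 := by
        refine hint _ ?_ (mul_mem h (inv_mem (Subgroup.mem_zpowers _)))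
        rw [show u * s.z * u⁻¹ * s.z⁻¹ = u * (s.z * u⁻¹ * s.z⁻¹) by group]
        exact mul_mem hu (hU.conj_mem _ (inv_mem hu) _)
      rwa [mul_inv_eq_one, mul_inv_eq_iff_eq_mul] at h1
    by_cases hW : U ⊔ Subgroup.zpowers s.z = ⊤
    · exfalso
      obtain ⟨g, hgN, hgC⟩ := hfus
      obtain ⟨u, hu, y, hy, rfl⟩ := Subgroup.mem_sup_of_normal_left.mp
        (hW ▸ Subgroup.mem_top g : g ∈ U ⊔ Subgroup.zpowers s.z)
      refine hgC (mul_mem ?_ ?_)
      · have huN : u ∈ Subgroup.normalizer ((Subgroup.zpowers s.z : Subgroup G) : Set G) := by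
          have := mul_mem hgN (inv_mem (Subgroup.le_normalizer hy))
          rwa [mul_inv_cancel_right] at this
        exact Subgroup.mem_centralizer_singleton_iff.mpr
          (hcommz u hu ((Subgroup.mem_normalizer_iff.mp huN _).mp (Subgroup.mem_zpowers _)))
      · obtain ⟨i, rfl⟩ := Subgroup.mem_zpowers_iff.mp hy
        exact Subgroup.mem_centralizer_singleton_iff.mpr (Commute.zpow_left rfl i).eq
    · have hcu : ∀ u ∈ U, u * s.z = s.z * u := fun u hu => hcommz u hu
        (hsub _ (Subgroup.mem_sup_right (Subgroup.mem_zpowers _)) hW u (Subgroup.mem_sup_left hu))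
      have htop := hclosure (Subgroup.centralizer (U : Set G)) inferInstance
        (Subgroup.mem_centralizer_iff.mpr fun u hu => hcu u hu)
      intro u hu
      rw [Subgroup.mem_center_iff]
      intro g
      exact (Subgroup.mem_centralizer_iff.mp
        (htop ▸ Subgroup.mem_top g : g ∈ Subgroup.centralizer (U : Set G)) u hu).symm
  -- the reduction
  obtain ⟨n, ρ, hρ, hρψ⟩ := ψ.2
  have hψ1 : charDegree (ψ : G → ℂ) = n := by
    rw [charDegree, ← hρψ, ρ.char_one, Module.finrank_fin_fun, Complex.natCast_re,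
      Nat.floor_natCast]
  have hn1 : n ≠ 1 := fun h => hnz (Subgroup.mem_center_iff.mpr fun g =>
    commutatorElement_eq_one_iff_mul_comm.mp (hψf _ (by
      rw [← hρψ, commutatorElement_def]
      show LinearMap.trace ℂ _ (ρ (g * s.z * g⁻¹ * s.z⁻¹)) = LinearMap.trace ℂ _ (ρ 1)
      rw [apply_commutator_of_degree_one ρ h, map_one ρ])))
  have hn0 : 0 < n := hψ1 ▸ charDegree_pos ψ
  obtain ⟨k, _, _, A, hA⟩ := exists_reduction hp ρ
  let ρ' : Representation k G (Fin n → k) := Matrix.toLinAlgEquiv'.toMonoidHom.comp A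
  have hρz : ρ' s.z ≠ 1 := by
    intro h
    have hAz : A s.z = 1 := Matrix.toLinAlgEquiv'.injective (h.trans (map_one _).symm)
    have hAall : ∀ g, A g = 1 := fun g => by
      have := hclosure A.ker inferInstance hAz
      exact (this ▸ Subgroup.mem_top g : g ∈ A.ker)
    have hcard : ∃ r, r.Prime ∧ r ∣ Nat.card G ∧ r ≠ p := by
      by_contra hr
      push Not at hr
      refine hnot ?_
      have hpg : Nat.card G = p := by
        obtain ⟨c, hc⟩ := hdvd
        rcases Nat.eq_or_lt_of_le (Nat.pos_of_ne_zero (fun h0 : c = 0 => by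
          rw [h0, mul_zero] at hc; exact Nat.card_pos.ne' hc) : 1 ≤ c) with h1 | h1
        · rw [hc, ← h1]; simp
        · obtain ⟨r, hr', hrc⟩ := Nat.exists_prime_and_dvd (Nat.ne_of_gt h1)
          have := hr r hr' (hc ▸ hrc.mul_left p)
          subst this
          exact absurd (by rw [hc, pow_two]; exact Nat.mul_dvd_mul_left r hrc) hsq
      have htop : Subgroup.zpowers s.z = ⊤ :=
        Subgroup.eq_top_of_card_eq _ (hzc.trans hpg.symm)
      rw [htop]
      infer_instance
    obtain ⟨r, hr, hrd, hrp⟩ := hcard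
    haveI := Fact.mk hr
    obtain ⟨w, hw⟩ := exists_prime_orderOf_dvd_card' r hrd
    haveI := Fintype.ofFinite (Subgroup.zpowers w)
    obtain ⟨m, hm⟩ := CharCore.IsCharacter.exists_classInner_eq_natCast
      (CharCore.isCharacter_restrict (CharCore.irr_isCharacter ψ) (Subgroup.zpowers w))
      (CharCore.irr_isCharacter (G := Subgroup.zpowers w) ⟨_, CharCore.isIrrCharacter_one⟩)
    have hsum : ∑ i : Fin (orderOf w), ρ.character (w ^ (i : ℕ)) =
        ((orderOf w * m : ℕ) : ℂ) := by
      rw [CharCore.classInner_def, Nat.card_zpowers,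
        inv_mul_eq_iff_eq_mul₀ (Nat.cast_ne_zero.mpr (orderOf_pos w).ne')] at hm
      rw [Nat.cast_mul, ← hm]
      refine Fintype.sum_equiv (finEquivZPowers (isOfFinOrder_of_finite w)) _ _ fun i => ?_
      rw [hρψ]
      simp [finEquivZPowers_apply]
    have hk := hA (fun i : Fin (orderOf w) => w ^ (i : ℕ)) ((orderOf w * m : ℕ) : ℤ)
      (by rw [hsum]; simp)
    simp only [hAall, Matrix.trace_one, Fintype.card_fin, Finset.sum_const, Finset.card_univ,
      nsmul_eq_mul] at hk
    push_cast at hk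
    have hw0 : ((orderOf w : ℕ) : k) ≠ 0 := by
      rw [Ne, CharP.cast_eq_zero_iff k p, hw]
      exact fun h => hrp ((Nat.prime_dvd_prime_iff_eq hp hr).mp h).symm
    have hnm : (n : k) = (m : k) := mul_left_cancel₀ hw0 hk
    have hψle : ∀ g : G, ‖(ψ : G → ℂ) g‖ ≤ (n : ℝ) := fun g => by
      have h := CharCore.IsCharacter.norm_apply_le (CharCore.irr_isCharacter ψ) g
      rwa [irr_one_eq, hψ1, Complex.norm_natCast] at h
    have hmn : m ≤ n := by
      have h : ‖((orderOf w * m : ℕ) : ℂ)‖ ≤ (orderOf w : ℝ) * n := by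
        rw [← hsum]
        refine (norm_sum_le _ _).trans ?_
        rw [hρψ]
        refine (Finset.sum_le_sum fun i _ => hψle _).trans_eq ?_
        simp
      rw [Complex.norm_natCast] at h
      have h' : orderOf w * m ≤ orderOf w * n := by exact_mod_cast h
      exact Nat.le_of_mul_le_mul_left h' (orderOf_pos w)
    obtain rfl : n = m := by
      have h0 : ((n - m : ℕ) : k) = 0 := by rw [Nat.cast_sub hmn, hnm, sub_self]
      have := Nat.eq_zero_of_dvd_of_lt ((CharP.cast_eq_zero_iff k p _).mp h0) (by omega)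
      omega
    have h1 : 1 < orderOf w := hw ▸ hr.one_lt
    have hval := eq_of_sum_eq (fun i : Fin (orderOf w) => ρ.character (w ^ (i : ℕ))) n
      (fun i => by rw [hρψ]; exact hψle _) (by rw [hsum, Fintype.card_fin, Nat.cast_mul]) ⟨1, h1⟩
    simp only [pow_one] at hval
    have := hψf w (by rw [irr_one_eq, hψ1, ← hρψ, hval])
    rw [this, orderOf_one] at hw
    exact hr.ne_one hw.symm
  have hK : s.K ≤ Subgroup.center G :=
    K_le_center s hidx ρ' (by rw [Module.finrank_fin_fun]; omega) hρz hsimple hfus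
  exact false_of_central s hidx hK hsimple hnz hfus ψ (by omega) (by omega)

/-- Brauer: below degree `(p - 1) / 2` there is a normal subgroup of order `p`. -/
theorem exists_normal {G : Type u} [Group G] [Finite G] {p : ℕ} (hp : p.Prime)
    (hdiv : p ∣ Nat.card G) (hsq : ¬ p ^ 2 ∣ Nat.card G) {χ : G → ℂ} (hχ : IsCharacter G χ)
    (hf : ∀ g : G, χ g = χ 1 → g = 1) (hdeg : 2 * charDegree χ + 1 < p) :
    ∃ H : Subgroup G, H.Normal ∧ Nat.card H = p :=
  exists_normal_aux p hp _ G rfl hdiv hsq χ hχ hf hdeg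

end Cfsg.Agent.BlkChar.SmallDegree
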