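import Mathlib.RingTheory.Valuation.LocalSubring
import Mathlib.RingTheory.Flat.TorsionFree
import Mathlib.RingTheory.LocalRing.Module
import Mathlib.RingTheory.LocalRing.ResidueField.Basic
import Mathlib.RingTheory.Localization.Module
import Mathlib.RepresentationTheory.Basic
import Mathlib.RepresentationTheory.Character
import Mathlib.LinearAlgebra.Trace
import Mathlib.Analysis.Complex.Basic

/-!
# Reduction of a complex representation modulo a prime

Every complex representation of a finite group can be written over a valuation ring of `ℂ` with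
`p` in its maximal ideal, and so has a reduction in characteristic `p`.
-/

set_option linter.unusedSectionVars false

namespace Cfsg.Agent.BlkChar.SmallDegree

/-- A valuation subring of `ℂ` in which the prime `p` is no unit. -/
theorem exists_valuationSubring {p : ℕ} (hp : p.Prime) :
    ∃ O : ValuationSubring ℂ, (p : ℂ) ∈ O.nonunits := by
  set A : Subring ℂ := ⊥
  set I : Ideal A := Ideal.span {(p : A)}
  have hI : I ≠ ⊤ := by
    intro h
    obtain ⟨⟨a, ha⟩, hc⟩ := Ideal.mem_span_singleton'.mp ((Ideal.eq_top_iff_one I).mp h)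
    obtain ⟨k, rfl⟩ := Subring.mem_bot.mp ha
    have h1 : (k : ℂ) * (p : ℂ) = 1 := by
      have := congrArg Subtype.val hc
      simpa using this
    have h2 : k * (p : ℤ) = 1 := by exact_mod_cast h1
    have h3 : p = 1 := by
      have h4 := Int.natAbs_mul k p
      rw [h2, Int.natAbs_one, Int.natAbs_natCast] at h4
      exact Nat.eq_one_of_mul_eq_one_left h4.symm
    exact hp.ne_one h3
  obtain ⟨O, -, hsub⟩ := Ideal.image_subset_nonunits_valuationSubring I hI
  exact ⟨O, hsub ⟨(p : A), Ideal.mem_span_singleton_self _, by simp⟩⟩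

/-- The residue field has characteristic `p`. -/
theorem charP_residue {p : ℕ} (hp : p.Prime) {O : ValuationSubring ℂ}
    (hO : (p : ℂ) ∈ O.nonunits) : CharP (IsLocalRing.ResidueField O) p := by
  refine (CharP.charP_iff_prime_eq_zero hp).mpr ?_
  rw [← map_natCast (IsLocalRing.residue O), IsLocalRing.residue_eq_zero_iff]
  have : ((p : O) : ℂ) = (p : ℂ) := map_natCast O.subtype p
  rw [← ValuationSubring.coe_mem_nonunits_iff, this]
  exact hO

/-- A representation over a valuation ring of `ℂ`. -/
theorem exists_matrix_hom {G : Type*} [Group G] [Finite G] (O : ValuationSubring ℂ) {n : ℕ}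
    (ρ : Representation ℂ G (Fin n → ℂ)) :
    ∃ A : G →* Matrix (Fin n) (Fin n) O, ∀ g, (((A g).trace : O) : ℂ) = ρ.character g := by
  classical
  set S : Set (Fin n → ℂ) := Set.range fun x : G × Fin n => ρ x.1 (Pi.single x.2 1) with hS
  set L : Submodule O (Fin n → ℂ) := Submodule.span O S with hL
  haveI : Finite S := Set.finite_range _
  haveI : Module.Finite O L := Module.Finite.span_of_finite O (Set.finite_range _)
  haveI : Module.IsTorsionFree O L := inferInstance
  haveI : Module.Flat O L := by
    rw [Module.Flat.flat_iff_torsion_eq_bot_of_isBezout, ← Submodule.isTorsionFree_iff_torsion_eq_bot]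
    infer_instance
  haveI : Module.Free O L := Module.free_of_flat_of_isLocalRing
  let b₀ := Module.Free.chooseBasis O L
  have hli : LinearIndependent ℂ fun i => (b₀ i : Fin n → ℂ) := by
    rw [← LinearIndependent.iff_fractionRing O ℂ]
    exact b₀.linearIndependent.map' L.subtype (Submodule.ker_subtype L)
  have hsp : ⊤ ≤ Submodule.span ℂ (Set.range fun i => (b₀ i : Fin n → ℂ)) := by
    rw [← Pi.basisFun ℂ (Fin n) |>.span_eq]
    refine Submodule.span_le.mpr ?_
    rintro _ ⟨i, rfl⟩
    have hmem : (Pi.single i 1 : Fin n → ℂ) ∈ L := Submodule.subset_span ⟨(1, i), by simp⟩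
    have h := b₀.linearCombination_repr ⟨_, hmem⟩
    have h' : ((Finsupp.linearCombination O b₀ (b₀.repr ⟨_, hmem⟩) : L) : Fin n → ℂ) =
        Pi.single i 1 := congrArg Subtype.val h
    rw [Pi.basisFun_apply, ← h', Finsupp.linearCombination_apply, Finsupp.sum]
    simp only [AddSubmonoidClass.coe_finset_sum, Submodule.coe_smul_of_tower]
    refine Submodule.sum_mem _ fun j _ => ?_
    exact Submodule.smul_mem _ ((b₀.repr ⟨_, hmem⟩ j : O) : ℂ) (Submodule.subset_span ⟨j, rfl⟩)
  let B := Module.Basis.mk hli hsp
  haveI : Finite (Module.Free.ChooseBasisIndex O L) := inferInstance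
  haveI := Fintype.ofFinite (Module.Free.ChooseBasisIndex O L)
  have hcard : Fintype.card (Module.Free.ChooseBasisIndex O L) = n := by
    rw [← Module.finrank_eq_card_basis B, Module.finrank_fin_fun]
  let eq := Fintype.equivFinOfCardEq hcard
  let b := b₀.reindex eq
  let BB := B.reindex eq
  have hstab : ∀ g v, v ∈ L → ρ g v ∈ L := by
    intro g v hv
    induction hv using Submodule.span_induction with
    | mem x hx =>
      obtain ⟨⟨h, i⟩, rfl⟩ := hx
      exact Submodule.subset_span ⟨(g * h, i), by simp [map_mul]⟩
    | zero => simp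
    | add x y _ _ hx hy => rw [map_add]; exact add_mem hx hy
    | smul a x _ hx =>
      rw [show a • x = (a : ℂ) • x from rfl, map_smul]
      exact L.smul_mem a hx
  let σ : G →* Module.End O L :=
    { toFun := fun g =>
        { toFun := fun v => ⟨ρ g v, hstab g v v.2⟩
          map_add' := fun x y => Subtype.ext (by simp)
          map_smul' := fun a x => Subtype.ext (by
            show ρ g ((a : ℂ) • (x : Fin n → ℂ)) = (a : ℂ) • ρ g x
            exact map_smul _ _ _) }
      map_one' := LinearMap.ext fun v => Subtype.ext (by simp)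
      map_mul' := fun g h => LinearMap.ext fun v => Subtype.ext (by simp) }
  refine ⟨(LinearMap.toMatrixAlgEquiv b).toMonoidHom.comp σ, fun g => ?_⟩
  rw [Representation.character, LinearMap.trace_eq_matrix_trace ℂ BB, Matrix.trace, Matrix.trace]
  push_cast
  refine Finset.sum_congr rfl fun i _ => ?_
  simp only [Matrix.diag_apply]
  rw [LinearMap.toMatrix_apply]
  show ((LinearMap.toMatrixAlgEquiv b (σ g) i i : O) : ℂ) = _
  rw [LinearMap.toMatrixAlgEquiv_apply]
  have hBb : ∀ j, BB j = (b j : Fin n → ℂ) := fun j => by
    simp [BB, b, B]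
  have hrepr : ∀ (w : L) j, BB.repr (w : Fin n → ℂ) j = ((b.repr w j : O) : ℂ) := by
    intro w j
    conv_lhs => rw [← b.sum_repr w]
    simp only [AddSubmonoidClass.coe_finset_sum, Submodule.coe_smul_of_tower, map_sum,
      Finsupp.coe_finset_sum, Finset.sum_apply]
    rw [Finset.sum_eq_single j]
    · rw [← hBb, show b.repr w j • BB j = ((b.repr w j : O) : ℂ) • BB j from rfl, map_smul]
      simp
    · intro k _ hk
      rw [← hBb, show b.repr w k • BB k = ((b.repr w k : O) : ℂ) • BB k from rfl, map_smul]
      simp [hk]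
    · simp
  rw [hBb, ← hrepr]
  rfl

/-- A complex representation has a reduction in characteristic `p`. -/
theorem exists_reduction {G : Type*} [Group G] [Finite G] {p : ℕ} (hp : p.Prime) {n : ℕ}
    (ρ : Representation ℂ G (Fin n → ℂ)) :
    ∃ (k : Type) (_ : Field k) (_ : CharP k p) (A : G →* Matrix (Fin n) (Fin n) k),
      ∀ {H : Type} [Fintype H] (f : H → G) (m : ℤ),
        ∑ h, ρ.character (f h) = (m : ℂ) → ∑ h, (A (f h)).trace = (m : k) := by
  obtain ⟨O, hO⟩ := exists_valuationSubring hp
  obtain ⟨A, hA⟩ := exists_matrix_hom O ρ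
  refine ⟨IsLocalRing.ResidueField O, inferInstance, charP_residue hp hO,
    ((IsLocalRing.residue O).mapMatrix.toMonoidHom).comp A, fun f m hm => ?_⟩
  have h : ∑ h, (A (f h)).trace = (m : O) := by
    apply Subtype.ext
    push_cast
    simpa [hA] using hm
  rw [← map_intCast (IsLocalRing.residue O), ← h, map_sum]
  refine Finset.sum_congr rfl fun x _ => ?_
  simp [Matrix.trace, map_sum]

end Cfsg.Agent.BlkChar.SmallDegree
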